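import Cfsg.Agent.Lib.StrongEmbedS4.CaseOut
import Cfsg.Prelude.Def_Involutions

/-!
All maximal 2-local subgroups are strongly embedded when the 2-local subgroups are solvable,
of characteristic two and without `S₄` section.
-/

set_option autoImplicit false
set_option maxHeartbeats 800000

namespace CfsgLib.StrongEmbedS4

open CfsgLib Cfsg

universe u

variable {G : Type u} [Group G]

/-- `A` is elementary abelian of largest order in `T`. -/
def Max (T A : Subgroup G) : Prop :=
  A ≤ T ∧ PairRank.EA 2 A ∧ ∀ B ≤ T, PairRank.EA 2 B → Nat.card B ≤ Nat.card A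

/-- The Thompson subgroup (elementary version). -/
def jS (T : Subgroup G) : Subgroup G := sSup {A | Max T A}

/-- The central elements of exponent two. -/
def zS (T : Subgroup G) : Subgroup G where
  carrier := {x | x ∈ T ∧ x ^ 2 = 1 ∧ ∀ t ∈ T, t * x = x * t}
  one_mem' := ⟨T.one_mem, one_pow 2, fun t _ => by rw [mul_one, one_mul]⟩
  mul_mem' := fun {a b} ha hb => ⟨T.mul_mem ha.1 hb.1, by
    rw [(show Commute a b from hb.2.2 a ha.1).mul_pow, ha.2.1, hb.2.1, one_mul],
    fun t ht => ((show Commute t a from ha.2.2 t ht).mul_right (hb.2.2 t ht)).eq⟩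
  inv_mem' := fun {a} ha => ⟨T.inv_mem ha.1, by rw [inv_pow, ha.2.1, inv_one],
    fun t ht => (show Commute t a from ha.2.2 t ht).inv_right.eq⟩

theorem zS_le (T : Subgroup G) : zS T ≤ T := fun _ h => h.1

theorem ea_zS (T : Subgroup G) : PairRank.EA 2 (zS T) :=
  ⟨fun x hx _ hy => hy.2.2 x hx.1, fun _ hx => hx.2.1⟩

theorem le_jS {T A : Subgroup G} (h : Max T A) : A ≤ jS T := le_sSup h

theorem jS_le (T : Subgroup G) : jS T ≤ T := sSup_le fun _ h => h.1

theorem zS_subgroupOf {L T : Subgroup G} (hT : T ≤ L) : zS (T.subgroupOf L) = (zS T).subgroupOf L := by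
  ext x
  constructor
  · rintro ⟨h1, h2, h3⟩
    exact ⟨h1, congrArg Subtype.val h2, fun t ht => congrArg Subtype.val (h3 ⟨t, hT ht⟩ ht)⟩
  · rintro ⟨h1, h2, h3⟩
    exact ⟨h1, Subtype.ext h2, fun t ht => Subtype.ext (h3 t ht)⟩

variable [Finite G]

theorem exists_max (T : Subgroup G) : ∃ A, Max T A := by
  obtain ⟨A, ⟨hA1, hA2⟩, hA3⟩ := Set.exists_max_image {A : Subgroup G | A ≤ T ∧ PairRank.EA 2 A}
    (fun A => Nat.card A) (Set.toFinite _) ⟨⊥, bot_le, PairRank.ea_bot 2⟩
  exact ⟨A, hA1, hA2, fun B hB hB' => hA3 B ⟨hB, hB'⟩⟩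

theorem zS_le_max {T A : Subgroup G} (h : Max T A) : zS T ≤ A := by
  have hB := ea_sup h.2.1 (ea_zS T) fun a ha z hz => hz.2.2 a (h.1 ha)
  exact le_sup_right.trans (Subgroup.eq_of_le_of_card_ge le_sup_left
    (h.2.2 _ (sup_le h.1 (zS_le T)) hB)).ge

theorem jS_subgroupOf {L T : Subgroup G} (hT : T ≤ L) : (jS (T.subgroupOf L)).map L.subtype = jS T := by
  have hdown : ∀ {A : Subgroup G}, PairRank.EA 2 A → PairRank.EA 2 (A.subgroupOf L) := fun hA =>
    ⟨fun x hx y hy => Subtype.ext (hA.comm _ hx _ hy), fun x hx => Subtype.ext (by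
      rw [SubmonoidClass.coe_pow]; exact hA.pow _ hx)⟩
  have hup : ∀ {A : Subgroup L}, PairRank.EA 2 A → PairRank.EA 2 (A.map L.subtype) := fun {A} hA => by
    refine ⟨?_, ?_⟩
    · rintro _ ⟨a, ha, rfl⟩ _ ⟨b, hb, rfl⟩
      rw [← map_mul, ← map_mul, hA.comm a ha b hb]
    · rintro _ ⟨a, ha, rfl⟩
      rw [← map_pow, hA.pow a ha, map_one]
  refine le_antisymm (Subgroup.map_le_iff_le_comap.2 (sSup_le fun A hA =>
    Subgroup.map_le_iff_le_comap.1 (le_jS ?_))) (sSup_le fun A hA => ?_)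
  · refine ⟨Subgroup.map_le_iff_le_comap.2 hA.1, hup hA.2.1, fun B hB hB' => ?_⟩
    have := hA.2.2 (B.subgroupOf L) (Subgroup.comap_mono hB) (hdown hB')
    rwa [Nat.card_congr (Subgroup.subgroupOfEquivOfLe (hB.trans hT)).toEquiv,
      ← Subgroup.card_map_of_injective L.subtype_injective] at this
  · refine le_trans (Subgroup.map_subgroupOf_eq_of_le (hA.1.trans hT)).ge (Subgroup.map_mono (le_jS
      ⟨Subgroup.comap_mono hA.1, hdown hA.2.1, fun B hB hB' => ?_⟩))
    have := hA.2.2 _ (Subgroup.map_le_iff_le_comap.2 hB) (hup hB')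
    rwa [Subgroup.card_map_of_injective L.subtype_injective,
      ← Nat.card_congr (Subgroup.subgroupOfEquivOfLe (hA.1.trans hT)).toEquiv] at this

theorem normalizer_le_jS (T : Subgroup G) :
    Subgroup.normalizer (T : Set G) ≤ Subgroup.normalizer (jS T : Set G) := by
  intro g hg
  refine Local.mem_normalizer_of_map_conj_eq (Subgroup.eq_of_le_of_card_ge ?_
    (Subgroup.card_map_of_injective (MulAut.conj g).injective).ge)
  rw [Subgroup.map_le_iff_le_comap]
  refine sSup_le fun A hA => Subgroup.map_le_iff_le_comap.1 (le_jS ⟨?_, ea_cj hA.2.1 g, fun B hB hB' => ?_⟩)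
  · exact Local.map_conj_le fun x hx => (Subgroup.mem_normalizer_iff.1 hg x).1 (hA.1 hx)
  · rw [Subgroup.card_map_of_injective (MulAut.conj g).injective]
    exact hA.2.2 B hB hB'

theorem normalizer_le_zS (T : Subgroup G) :
    Subgroup.normalizer (T : Set G) ≤ Subgroup.normalizer (zS T : Set G) := by
  intro g hg
  refine Local.mem_normalizer_of_map_conj_eq (Subgroup.eq_of_le_of_card_ge ?_
    (Subgroup.card_map_of_injective (MulAut.conj g).injective).ge)
  refine Local.map_conj_le fun x hx => ⟨(Subgroup.mem_normalizer_iff.1 hg x).1 hx.1, ?_, fun t ht => ?_⟩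
  · rw [conj_pow, hx.2.1, mul_one, mul_inv_cancel]
  · have h1 := hx.2.2 (g⁻¹ * t * g) ((Subgroup.mem_normalizer_iff.1 hg _).2 (by simpa [mul_assoc] using ht))
    calc t * (g * x * g⁻¹) = g * ((g⁻¹ * t * g) * x) * g⁻¹ := by group
      _ = g * x * g⁻¹ * t := by rw [h1]; group

theorem zS_ne_bot {T : Subgroup G} (hT : IsPGroup 2 T) (hne : T ≠ ⊥) : zS T ≠ ⊥ := by
  haveI : Fact (Nat.Prime 2) := ⟨Nat.prime_two⟩
  obtain ⟨z, hz, hz1, hzc⟩ := AbelianTrace.exists_fixed hT hT Subgroup.le_normalizer hne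
  obtain ⟨k, hk⟩ := IsPGroup.iff_orderOf.1 hT ⟨z, hz⟩
  rw [Subgroup.orderOf_mk] at hk
  rcases k with _ | k
  · exact absurd (orderOf_eq_one_iff.1 (by simpa using hk)) hz1
  intro hbot
  have hy : z ^ 2 ^ k ∈ zS T := ⟨T.pow_mem hz _, by rw [← pow_mul, ← pow_succ, ← hk, pow_orderOf_eq_one],
    fun t ht => ((show Commute t z from hzc t ht).pow_right _).eq⟩
  rw [hbot, Subgroup.mem_bot] at hy
  have h1 := Nat.le_of_dvd (pow_pos two_pos k) (orderOf_dvd_of_pow_eq_one hy)
  rw [hk, pow_succ] at h1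
  have := Nat.pow_pos (n := k) two_pos
  omega

theorem exists_bigger {T P : Subgroup G} (hP : IsPGroup 2 P) (h : T < P) :
    T < P ⊓ Subgroup.normalizer (T : Set G) := by
  haveI : Fact (Nat.Prime 2) := ⟨Nat.prime_two⟩
  haveI : Group.IsNilpotent P := hP.isNilpotent
  refine lt_of_le_of_ne (le_inf h.le Subgroup.le_normalizer) fun e => ?_
  have hlt : T.subgroupOf P < ⊤ := lt_top_iff_ne_top.2 fun e' => h.not_ge (Subgroup.subgroupOf_eq_top.1 e')
  obtain ⟨x, hx, hxT⟩ := SetLike.exists_of_lt (Group.normalizerCondition_of_isNilpotent _ hlt)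
  refine hxT (e.ge ⟨x.2, Subgroup.mem_normalizer_iff.2 fun y => ?_⟩)
  constructor
  · intro hy
    exact (Subgroup.mem_normalizer_iff.1 hx ⟨y, h.le hy⟩).1 hy
  · intro hy
    have hyP : y ∈ P := by
      have := P.mul_mem (P.mul_mem (P.inv_mem x.2) (h.le hy)) x.2
      simpa [mul_assoc] using this
    exact (Subgroup.mem_normalizer_iff.1 hx ⟨y, hyP⟩).2 hy

/-- Factorisation in a solvable group of characteristic two without `S₄` section. -/
theorem factor_aux {K : Type u} [Group K] [Finite K] (hsol : Group.IsSolvable K)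
    (hfree : ¬ Involves (Equiv.Perm (Fin 4)) K) (hchar : Subgroup.centralizer (pCore 2 K : Set K) ≤ pCore 2 K)
    (S : Sylow 2 K) :
    Subgroup.centralizer (zS (S : Subgroup K) : Set K) ⊔
      Subgroup.normalizer (jS (S : Subgroup K) : Set K) = ⊤ := by
  haveI : Fact (Nat.Prime 2) := ⟨Nat.prime_two⟩
  set Q := pCore 2 K
  have hQn : Q.Normal := inferInstance
  have hQS : Q ≤ (S : Subgroup K) := pCore_le_sylow S
  set Z := zS (S : Subgroup K)
  have hZQ : Z ≤ Q := fun z hz => hchar fun q hq => hz.2.2 q (hQS hq)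
  set V := conjSup Z
  haveI : V.Normal := conjSup_normal Z
  have hZV : Z ≤ V := le_conjSup Z
  have hV : PairRank.EA 2 V := by
    letI := Fintype.ofFinite K
    refine ea_sup_finset _ _ (fun g _ => ea_cj (ea_zS _) g) fun i _ j _ x hx y hy => ?_
    obtain ⟨b, hb, rfl⟩ := hy
    have h1 : j⁻¹ * x * j ∈ Q := by
      obtain ⟨a, ha, rfl⟩ := hx
      simpa using hQn.conj_mem _ (hQn.conj_mem a (hZQ ha) i) j⁻¹
    have h2 := hb.2.2 _ (hQS h1)
    show x * (j * b * j⁻¹) = j * b * j⁻¹ * x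
    calc x * (j * b * j⁻¹) = j * ((j⁻¹ * x * j) * b) * j⁻¹ := by group
      _ = _ := by rw [h2]; group
  have hVS : V ≤ (S : Subgroup K) := (conjSup_le_normal hZQ).trans hQS
  set C := Subgroup.centralizer (V : Set K)
  haveI : C.Normal := Subgroup.normal_centralizer
  have hN : nOf V ≤ C := by
    have hNCZ : nOf V ≤ Subgroup.centralizer (Z : Set K) := by
      intro x hx
      obtain ⟨s, hs, e⟩ := pCore_le_sylow (S.mapSurjective (QuotientGroup.mk'_surjective C)) hx
      have h1 : x * s⁻¹ ∈ Subgroup.centralizer (Z : Set K) := by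
        refine Subgroup.centralizer_le hZV ?_
        rw [← QuotientGroup.eq_one_iff (N := C)]
        show QuotientGroup.mk' C (x * s⁻¹) = 1
        rw [map_mul, map_inv, e, mul_inv_cancel]
      have h2 : s ∈ Subgroup.centralizer (Z : Set K) := fun z hz => (hz.2.2 s hs).symm
      simpa using Subgroup.mul_mem _ h1 h2
    intro x hx
    have hle : V ≤ Subgroup.centralizer {x} := conjSup_le fun g => by
      rintro _ ⟨z, hz, rfl⟩
      refine Subgroup.mem_centralizer_singleton_iff.2 ?_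
      have h3 : z * (g⁻¹ * x * g) = (g⁻¹ * x * g) * z :=
        hNCZ (by simpa using (nOf_normal V).conj_mem x hx g⁻¹) z hz
      show g * z * g⁻¹ * x = x * (g * z * g⁻¹)
      calc g * z * g⁻¹ * x = g * (z * (g⁻¹ * x * g)) * g⁻¹ := by group
        _ = _ := by rw [h3]; group
    exact fun v hv => Subgroup.mem_centralizer_singleton_iff.1 (hle hv)
  have hA : ∀ A, Max (S : Subgroup K) A → A ≤ C := by
    intro A hA
    have h1 := off1 hsol hfree hV (imEA_of_ea (V := V) hA.2.1)
    rw [le_antisymm hN (centralizer_le_nOf V)] at h1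
    have h2 := offender_le hV hVS hA.2.1 hA.1 hA.2.2
    have e1 := card_eq_mul_relIndex (Subgroup.centralizer (A : Set K)) V
    rw [inf_comm] at e1
    set r := C.relIndex A
    set q := (Subgroup.centralizer (A : Set K)).relIndex V
    have hr : r * r ≤ r := by
      refine le_trans ?_ h2
      refine Nat.le_of_mul_le_mul_right ?_ (Nat.card_pos : 0 < Nat.card ↥(V ⊓ Subgroup.centralizer (A : Set K)))
      rw [mul_comm q, e1]
      exact h1
    have hrpos : 0 < r := relIndex_pos' _ _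
    exact Subgroup.relIndex_eq_one.1 (le_antisymm (Nat.le_of_mul_le_mul_left (by simpa using hr) hrpos) hrpos)
  obtain ⟨P, hP⟩ := PLocal.exists_sylow_inf S C
  have hfr := Sylow.normalizer_sup_eq_top P
  rw [hP] at hfr
  have hNJ : Subgroup.normalizer (((S : Subgroup K) ⊓ C : Subgroup K) : Set K) ≤
      Subgroup.normalizer (jS (S : Subgroup K) : Set K) := by
    intro g hg
    refine Local.mem_normalizer_of_map_conj_eq (Subgroup.eq_of_le_of_card_ge ?_
      (Subgroup.card_map_of_injective (MulAut.conj g).injective).ge)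
    rw [Subgroup.map_le_iff_le_comap]
    refine sSup_le fun A hA' => Subgroup.map_le_iff_le_comap.1 (le_jS ⟨?_, ea_cj hA'.2.1 g, fun B hB hB' => ?_⟩)
    · exact Local.map_conj_le fun x hx => ((Subgroup.mem_normalizer_iff.1 hg x).1 ⟨hA'.1 hx, hA A hA' hx⟩).1
    · rw [Subgroup.card_map_of_injective (MulAut.conj g).injective]
      exact hA'.2.2 B hB hB'
  exact top_le_iff.1 (hfr ▸ sup_le (hNJ.trans le_sup_right) ((Subgroup.centralizer_le hZV).trans le_sup_left))

/-- Factorisation of a subgroup with Sylow subgroup `T`. -/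
theorem factor {L T : Subgroup G} (hsol : Group.IsSolvable L) (hfree : ¬ Involves (Equiv.Perm (Fin 4)) L)
    (hchar : IsOfCharacteristicTwo L) (hT : IsPGroup 2 T) (hTL : T ≤ L)
    (hmax : ∀ P : Subgroup G, IsPGroup 2 P → T ≤ P → P ≤ L → P = T) :
    L ≤ (L ⊓ Subgroup.centralizer (zS T : Set G)) ⊔ (L ⊓ Subgroup.normalizer (jS T : Set G)) := by
  obtain ⟨S, hS⟩ := (hT.comap_of_injective L.subtype L.subtype_injective).exists_le_sylow (p := 2)
  have hST : (S : Subgroup L) = T.subgroupOf L := by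
    refine le_antisymm (fun x hx => ?_) hS
    have h1 := hmax ((S : Subgroup L).map L.subtype) (S.2.map _) (fun t ht => ⟨⟨t, hTL ht⟩, hS ht, rfl⟩)
      (Subgroup.map_subtype_le _)
    show (x : G) ∈ T
    rw [← h1]
    exact ⟨x, hx, rfl⟩
  have h := factor_aux hsol hfree hchar S
  rw [hST] at h
  have hmap := congrArg (Subgroup.map L.subtype) h
  rw [Subgroup.map_sup, ← MonoidHom.range_eq_map, Subgroup.range_subtype] at hmap
  refine hmap.ge.trans (sup_le_sup ?_ ?_)
  · rintro _ ⟨x, hx, rfl⟩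
    refine ⟨x.2, fun z hz => ?_⟩
    rw [zS_subgroupOf hTL] at hx
    exact congrArg Subtype.val (hx ⟨z, hTL hz.1⟩ hz)
  · refine le_inf (Subgroup.map_subtype_le _) ?_
    conv_rhs => rw [← jS_subgroupOf hTL]
    exact Subgroup.le_normalizer_map _

/-- The main theorem. -/
theorem main (heven : Even (Nat.card G)) (hO : pCore 2 G = ⊥)
    (hloc : ∀ M : Subgroup G, IsTwoLocal M → Group.IsSolvable M ∧ IsOfCharacteristicTwo M ∧
      ¬ Involves (Equiv.Perm (Fin 4)) M)
    (M : Subgroup G) (hM : IsMaximalTwoLocal M) : IsStronglyEmbedded M := by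
  haveI : Fact (Nat.Prime 2) := ⟨Nat.prime_two⟩
  obtain ⟨S0⟩ : Nonempty (Sylow 2 G) := inferInstance
  set S := (S0 : Subgroup G) with hSd
  have hS2 : IsPGroup 2 S := S0.2
  have hSne : S ≠ ⊥ := fun e => by
    have h2 := S0.dvd_card_of_dvd_card (even_iff_two_dvd.1 heven)
    rw [show Nat.card (S0 : Subgroup G) = 1 from Subgroup.card_eq_one.2 e] at h2
    norm_num at h2
  set Z := zS S
  set NJ := Subgroup.normalizer (jS S : Set G) with hNJ
  have hSNJ : S ≤ NJ := Subgroup.le_normalizer.trans (normalizer_le_jS S)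
  have hZJ : Z ≤ jS S := by
    obtain ⟨A, hA⟩ := exists_max S
    exact (zS_le_max hA).trans (le_jS hA)
  have hZNJ : Z ≤ NJ := (zS_le S).trans hSNJ
  set W := (conjSup (Z.subgroupOf NJ)).map NJ.subtype with hWd
  have hWgen : ∀ X : Subgroup G, (∀ g ∈ NJ, ∀ z ∈ Z, g * z * g⁻¹ ∈ X) → W ≤ X := fun X h => by
    refine Subgroup.map_le_iff_le_comap.2 (conjSup_le fun g => ?_)
    rintro _ ⟨z, hz, rfl⟩
    exact h g g.2 z hz
  have hZW : ∀ g ∈ NJ, ∀ z ∈ Z, g * z * g⁻¹ ∈ W := fun g hg z hz =>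
    ⟨_, cj_le_conjSup (⟨g, hg⟩ : NJ) _ ⟨⟨z, hZNJ hz⟩, hz, rfl⟩, rfl⟩
  have hZW1 : Z ≤ W := fun z hz => by simpa using hZW 1 NJ.one_mem z hz
  have hWJ : W ≤ jS S := hWgen _ fun g hg z hz => (Subgroup.mem_normalizer_iff.1 hg z).1 (hZJ hz)
  have hWS : W ≤ S := hWJ.trans (jS_le S)
  have hWc : ∀ w ∈ W, ∀ j ∈ jS S, j * w = w * j := by
    intro w hw j hj
    refine ((hWgen (Subgroup.centralizer (jS S : Set G)) fun g hg z hz j hj => ?_) hw) j hj
    have h1 := hz.2.2 (g⁻¹ * j * g) (jS_le S ((Subgroup.mem_normalizer_iff.1 hg _).2 (by simpa [mul_assoc] using hj)))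
    calc j * (g * z * g⁻¹) = g * ((g⁻¹ * j * g) * z) * g⁻¹ := by group
      _ = g * z * g⁻¹ * j := by rw [h1]; group
  have hW : PairRank.EA 2 W := by
    refine ⟨fun x hx y hy => hWc y hy x (hWJ hx), fun x hx => ?_⟩
    let I : Subgroup G :=
      { carrier := {a | a ∈ W ∧ a ^ 2 = 1}
        one_mem' := ⟨one_mem _, one_pow 2⟩
        mul_mem' := fun {a b} ha hb => ⟨W.mul_mem ha.1 hb.1, by
          rw [(show Commute a b from hWc b hb.1 a (hWJ ha.1)).mul_pow, ha.2, hb.2, one_mul]⟩
        inv_mem' := fun {a} ha => ⟨W.inv_mem ha.1, by rw [inv_pow, ha.2, inv_one]⟩ }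
    exact ((hWgen I fun g hg z hz => ⟨hZW g hg z hz, by rw [conj_pow, hz.2.1, mul_one, mul_inv_cancel]⟩) hx).2
  have hWne : W ≠ ⊥ := fun e => zS_ne_bot hS2 hSne (le_bot_iff.1 (e ▸ hZW1))
  set M0 := Subgroup.normalizer (W : Set G) with hM0
  have hM0loc : IsTwoLocal M0 := ⟨W, hW.isPGroup, hWne, rfl⟩
  have hNJM : NJ ≤ M0 := Subgroup.le_normalizer_map _ |>.trans' (by
    intro g hg
    exact ⟨⟨g, hg⟩, by rw [Subgroup.normalizer_eq_top]; trivial, rfl⟩)
  have hSM : S ≤ M0 := hSNJ.trans hNJM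
  have hsylow : ∀ P : Subgroup G, IsPGroup 2 P → S ≤ P → P = S := fun P hP h => S0.3 hP h
  -- no quadratic offence on `W`
  have hpp : PP W S := by
    obtain ⟨hsol, -, hfree⟩ := hloc M0 hM0loc
    have hWM : W ≤ M0 := Subgroup.le_normalizer
    haveI : (W.subgroupOf M0).Normal := Subgroup.normal_in_normalizer
    set W' := W.subgroupOf M0
    have hW' : PairRank.EA 2 W' := ⟨fun x hx y hy => Subtype.ext (hW.comm _ hx _ hy), fun x hx => Subtype.ext (by
      rw [SubmonoidClass.coe_pow]; exact hW.pow _ hx)⟩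
    obtain ⟨S', hS'⟩ := (hS2.comap_of_injective M0.subtype M0.subtype_injective).exists_le_sylow (p := 2)
    have hS'S : ∀ x ∈ (S' : Subgroup M0), (x : G) ∈ S := fun x hx => by
      rw [← hsylow _ (S'.2.map M0.subtype) fun s hs => ⟨⟨s, hSM hs⟩, hS' hs, rfl⟩]
      exact ⟨x, hx, rfl⟩
    set C := Subgroup.centralizer (W' : Set M0)
    haveI : C.Normal := Subgroup.normal_centralizer
    have hN : nOf W' ≤ C := by
      have hNCZ : ∀ x ∈ nOf W', ∀ z ∈ Z, z * (x : G) = (x : G) * z := by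
        intro x hx z hz
        obtain ⟨s, hs, e⟩ := pCore_le_sylow (S'.mapSurjective (QuotientGroup.mk'_surjective C)) hx
        have h1 : x * s⁻¹ ∈ C := by
          rw [← QuotientGroup.eq_one_iff (N := C)]
          show QuotientGroup.mk' C (x * s⁻¹) = 1
          rw [map_mul, map_inv, e, mul_inv_cancel]
        have h2 : Commute z ((x * s⁻¹ : M0) : G) :=
          congrArg Subtype.val (h1 ⟨z, hSM (zS_le S hz)⟩ (hZW1 hz))
        have h3 : Commute z (s : G) := (hz.2.2 _ (hS'S s hs)).symm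
        simpa using (h2.mul_right h3).eq
      intro x hx w hw
      refine Subtype.ext ((hWgen (Subgroup.centralizer {(x : G)}) fun g hg z hz => ?_) hw (x : G) rfl).symm
      rintro _ rfl
      have h4 := hNCZ _ ((nOf_normal W').conj_mem x hx ⟨g, hNJM hg⟩⁻¹) z hz
      simp only [Subgroup.coe_mul, InvMemClass.coe_inv, inv_inv] at h4
      calc (x : G) * (g * z * g⁻¹) = g * ((g⁻¹ * x * g) * z) * g⁻¹ := by group
        _ = g * z * g⁻¹ * x := by rw [← h4]; group
    intro A hA hI
    have hAM : A ≤ M0 := hA.trans hSM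
    set A' := A.subgroupOf M0
    have hI' : ImEA W' A' := by
      refine ⟨fun a ha w hw => Subtype.ext (hI.1 _ ha w hw), fun a ha b hb w hw => Subtype.ext (hI.2 _ ha _ hb w hw)⟩
    have h1 := off1 hsol hfree hW' hI'
    rw [le_antisymm hN (centralizer_le_nOf W')] at h1
    have e1 := card_eq_mul_relIndex (Subgroup.centralizer (A' : Set M0)) W'
    rw [inf_comm] at e1
    have e2 : C.relIndex A' = (Subgroup.centralizer (W : Set G)).relIndex A := by
      show (Subgroup.centralizer (W.subgroupOf M0 : Set M0)).relIndex (A.subgroupOf M0) = _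
      rw [← centralizer_subgroupOf hWM]
      exact Subgroup.relIndex_subgroupOf hAM
    have e3 : (Subgroup.centralizer (A' : Set M0)).relIndex W' =
        (Subgroup.centralizer (A : Set G)).relIndex W := by
      show (Subgroup.centralizer (A.subgroupOf M0 : Set M0)).relIndex (W.subgroupOf M0) = _
      rw [← centralizer_subgroupOf hAM]
      exact Subgroup.relIndex_subgroupOf hWM
    rw [← e2, ← e3]
    refine Nat.le_of_mul_le_mul_right ?_ (Nat.card_pos : 0 < Nat.card ↥(W' ⊓ Subgroup.centralizer (A' : Set M0)))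
    rw [mul_comm ((Subgroup.centralizer (A' : Set M0)).relIndex W'), e1]
    exact h1
  -- 2-locals over `S` lie in `M0`
  have hover : ∀ L : Subgroup G, IsTwoLocal L → S ≤ L → L ≤ M0 := by
    intro L hL hSL
    obtain ⟨hsol, hchar, hfree⟩ := hloc L hL
    haveI := hsol
    refine (factor hsol hfree hchar hS2 hSL fun P hP h _ => hsylow P hP h).trans (sup_le ?_ (inf_le_right.trans hNJM))
    by_contra hne
    obtain ⟨X, hX⟩ := (Set.toFinite {X : Subgroup G | S ≤ X ∧ X ≤ L ⊓ Subgroup.centralizer (Z : Set G) ∧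
      ¬ X ≤ M0}).exists_minimal ⟨L ⊓ Subgroup.centralizer (Z : Set G),
        le_inf hSL (show S ≤ Subgroup.centralizer (Z : Set G) from fun s hs z hz => (hz.2.2 s hs).symm), le_rfl, hne⟩
    obtain ⟨hSX, hXle, hXM⟩ := hX.prop
    have hXL : X ≤ L := hXle.trans inf_le_left
    have hWX : W ≤ X := hWS.trans hSX
    obtain ⟨SX, hSX'⟩ := (hS2.comap_of_injective X.subtype X.subtype_injective).exists_le_sylow (p := 2)
    have hSXe : (SX : Subgroup X) = S.subgroupOf X := by
      refine le_antisymm (fun x hx => ?_) hSX'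
      show (x : G) ∈ S
      rw [← hsylow _ (SX.2.map X.subtype) fun s hs => ⟨⟨s, hSX hs⟩, hSX' hs, rfl⟩]
      exact ⟨x, hx, rfl⟩
    have hchX : Subgroup.centralizer (pCore 2 X : Set X) ≤ pCore 2 X := by
      obtain ⟨SL, hSL'⟩ := (hS2.comap_of_injective L.subtype L.subtype_injective).exists_le_sylow (p := 2)
      set QL := (pCore 2 L).map L.subtype
      have hQLS : QL ≤ S := by
        refine (Subgroup.map_mono (pCore_le_sylow SL)).trans ?_
        rw [hsylow _ (SL.2.map L.subtype) fun s hs => ⟨⟨s, hSL hs⟩, hSL' hs, rfl⟩]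
      have hQn : (pCore 2 L).Normal := inferInstance
      haveI : (QL.subgroupOf X).Normal := by
        refine ⟨fun x hx k => ?_⟩
        obtain ⟨y, hy, e⟩ := hx
        exact ⟨⟨k, hXL k.2⟩ * y * ⟨k, hXL k.2⟩⁻¹, hQn.conj_mem y hy _, by
          show (k : G) * (y : G) * (k : G)⁻¹ = (k : G) * (x : G) * (k : G)⁻¹
          rw [show (y : G) = (x : G) from e]⟩
      have hQLX : QL.subgroupOf X ≤ pCore 2 X :=
        le_pCore (((isPGroup_pCore 2).map L.subtype).comap_of_injective X.subtype X.subtype_injective)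
      intro x hx
      refine hQLX ⟨⟨x, hXL x.2⟩, hchar fun y hy => Subtype.ext ?_, rfl⟩
      have h' := hx ⟨y, hSX (hQLS ⟨y, hy, rfl⟩)⟩ (hQLX ⟨y, hy, rfl⟩)
      exact congrArg (fun z : X => (z : G)) h'
    obtain ⟨A, hA, hAQ⟩ : ∃ A, Max S A ∧ ¬ A.subgroupOf X ≤ pCore 2 X := by
      by_contra hall
      push Not at hall
      refine hXM (le_trans (fun g hg => ?_) hNJM)
      refine Local.mem_normalizer_of_map_conj_eq (Subgroup.eq_of_le_of_card_ge ?_
        (Subgroup.card_map_of_injective (MulAut.conj g).injective).ge)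
      rw [Subgroup.map_le_iff_le_comap]
      refine sSup_le fun A hA => Subgroup.map_le_iff_le_comap.1 (le_jS ⟨?_, ea_cj hA.2.1 g, fun B hB hB' => ?_⟩)
      · refine Local.map_conj_le fun x hx => ?_
        have h1 : (⟨g, hg⟩ : X) * ⟨x, hSX (hA.1 hx)⟩ * ⟨g, hg⟩⁻¹ ∈ pCore 2 X :=
          (inferInstance : (pCore 2 X).Normal).conj_mem _ (hall A hA hx) _
        have h2 := pCore_le_sylow SX h1
        rw [hSXe] at h2
        exact h2
      · rw [Subgroup.card_map_of_injective (MulAut.conj g).injective]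
        exact hA.2.2 B hB hB'
    have hAX : A ≤ X := hA.1.trans hSX
    have hea : ∀ {B : Subgroup G}, PairRank.EA 2 B → PairRank.EA 2 (B.subgroupOf X) := fun hB =>
      ⟨fun x hx y hy => Subtype.ext (hB.comm _ hx _ hy), fun x hx => Subtype.ext (by
        rw [SubmonoidClass.coe_pow]; exact hB.pow _ hx)⟩
    have hnorm : ∀ L' : Subgroup X, L'.map X.subtype ≤ M0 → L' ≤ Subgroup.normalizer (W.subgroupOf X : Set X) :=
      fun L' h x hx => Subgroup.mem_normalizer_iff.2 fun y =>
        Subgroup.mem_normalizer_iff.1 (h ⟨x, hx, rfl⟩) (y : G)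
    refine Setting.false (S := SX) (W := W.subgroupOf X) (A := A.subgroupOf X)
      { sol := Group.isSolvable_of_isSolvable_injective (f := Subgroup.inclusion hXL) (Subgroup.inclusion_injective _)
        free := fun hi => hfree ?_
        char := hchX
        cen := ?_
        hWS := hSXe ▸ Subgroup.comap_mono hWS
        hW := hea hW
        hSW := hnorm _ (by rw [hSXe, Subgroup.map_subgroupOf_eq_of_le hSX]; exact hSM)
        pp := hSXe ▸ hpp.restrict hWX
        overgroups := ?_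
        notNormal := ?_
        hA := hea hA.2.1
        hAS := hSXe ▸ Subgroup.comap_mono hA.1
        hAQ := hAQ
        hmax := ?_ }
    · -- `S₄`-free
      obtain ⟨K, R, hR, ⟨e⟩⟩ := hi
      obtain ⟨g', hg'⟩ := Quadratic.exists_surjective_map (Subgroup.inclusion hXL) (Subgroup.inclusion_injective hXL)
        (L := K) (e.toMonoidHom.comp (QuotientGroup.mk' _)) (e.surjective.comp (QuotientGroup.mk'_surjective _))
      exact QdSection.involves_of_surjective _ g' hg'
    · intro z hz hz2 hzc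
      rw [hSXe] at hz hzc
      have hzZ : (z : G) ∈ Z := ⟨hz, congrArg Subtype.val hz2, fun s hs =>
        congrArg Subtype.val (hzc ⟨s, hSX hs⟩ hs)⟩
      exact Subgroup.mem_center_iff.2 fun x => Subtype.ext (((hXle x.2).2 _ hzZ)).symm
    · intro L' hSL' hne'
      refine hnorm L' ?_
      by_contra hL'M
      have hle' : L'.map X.subtype ≤ X := Subgroup.map_subtype_le _
      have hSle : S ≤ L'.map X.subtype := fun s hs => ⟨⟨s, hSX hs⟩, hSL' (hSXe ▸ hs), rfl⟩
      refine hne' (top_le_iff.1 fun x _ => ?_)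
      obtain ⟨y, hy, e⟩ := hX.le_of_le ⟨hSle, hle'.trans hXle, hL'M⟩ hle' x.2
      rwa [← Subtype.ext e] 
    · intro hn
      refine hXM fun x hx => Subgroup.mem_normalizer_iff.2 fun y => ?_
      constructor
      · intro hy
        exact hn.conj_mem ⟨y, hWX hy⟩ hy ⟨x, hx⟩
      · intro hy
        have := hn.conj_mem ⟨x * y * x⁻¹, hWX hy⟩ hy ⟨x, hx⟩⁻¹
        simpa [Subgroup.mem_subgroupOf, mul_assoc] using this
    · intro B hB hB'
      rw [hSXe] at hB
      have hB'' : PairRank.EA 2 (B.map X.subtype) := by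
        refine ⟨?_, ?_⟩
        · rintro _ ⟨a, ha, rfl⟩ _ ⟨b, hb, rfl⟩
          rw [← map_mul, ← map_mul, hB'.comm a ha b hb]
        · rintro _ ⟨a, ha, rfl⟩
          rw [← map_pow, hB'.pow a ha, map_one]
      rw [Nat.card_congr (Subgroup.subgroupOfEquivOfLe hAX).toEquiv,
        ← Subgroup.card_map_of_injective X.subtype_injective]
      exact hA.2.2 _ (Subgroup.map_le_iff_le_comap.2 hB) hB''
  -- normalisers of 2-subgroups of `M0`
  have hconjN : ∀ (g : G) (T : Subgroup G),
      cj g (Subgroup.normalizer (T : Set G)) = Subgroup.normalizer (cj g T : Set G) := by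
    intro g T
    ext x
    rw [mem_cj, Subgroup.mem_normalizer_iff, Subgroup.mem_normalizer_iff]
    constructor
    · intro h y
      rw [mem_cj, mem_cj, h]
      simp [mul_assoc]
    · intro h y
      have := h (g * y * g⁻¹)
      rw [mem_cj, mem_cj] at this
      simpa [mul_assoc] using this
  have hcjM : ∀ m ∈ M0, cj m M0 = M0 := fun m hm =>
    Local.map_conj_eq_of_mem_normalizer (Subgroup.le_normalizer hm)
  have hintoS : ∀ P : Subgroup G, IsPGroup 2 P → P ≤ M0 → ∃ m ∈ M0, cj m P ≤ S := by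
    intro P hP hPM
    obtain ⟨S', hS'⟩ := (hS2.comap_of_injective M0.subtype M0.subtype_injective).exists_le_sylow (p := 2)
    obtain ⟨P', hP'⟩ := (hP.comap_of_injective M0.subtype M0.subtype_injective).exists_le_sylow (p := 2)
    obtain ⟨m, hm⟩ := MulAction.exists_smul_eq M0 P' S'
    refine ⟨m, m.2, ?_⟩
    rintro _ ⟨x, hx, rfl⟩
    rw [← hsylow _ (S'.2.map M0.subtype) fun s hs => ⟨⟨s, hSM hs⟩, hS' hs, rfl⟩, ← hm]
    exact ⟨m * ⟨x, hPM hx⟩ * m⁻¹, ⟨⟨x, hPM hx⟩, hP' hx, rfl⟩, rfl⟩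
  have hstep : ∀ (k : ℕ) (T : Subgroup G), IsPGroup 2 T → T ≠ ⊥ → T ≤ M0 →
      (∃ P ≤ Subgroup.normalizer (T : Set G) ⊓ M0, IsPGroup 2 P ∧ Nat.card S ≤ Nat.card P + k) →
      Subgroup.normalizer (T : Set G) ≤ M0 := by
    intro k
    induction k using Nat.strong_induction_on with
    | _ k ih =>
    intro T hT hTne hTM ⟨P, hP, hP2, hPc⟩
    obtain ⟨R, hR⟩ := (Set.toFinite {R : Subgroup G | IsPGroup 2 R ∧ P ≤ R ∧
      R ≤ Subgroup.normalizer (T : Set G) ⊓ M0}).exists_maximal ⟨P, hP2, le_rfl, hP⟩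
    obtain ⟨hR2, hPR, hRle⟩ := hR.prop
    have hTR : T ≤ R := by
      refine le_sup_left.trans (hR.le_of_ge ⟨hT.to_sup_of_normal_left' hR2 (hRle.trans inf_le_left),
        hPR.trans le_sup_right, sup_le (le_inf Subgroup.le_normalizer hTM) hRle⟩ le_sup_right)
    obtain ⟨m, hm, hmR⟩ := hintoS R hR2 (hRle.trans inf_le_right)
    -- move to `S`
    suffices hgoal : Subgroup.normalizer (cj m T : Set G) ≤ M0 by
      rw [← hconjN, ← hcjM m hm] at hgoal
      exact (Subgroup.map_le_map_iff_of_injective (MulAut.conj m).injective).1 hgoal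
    set T' := cj m T
    set R' := cj m R
    have hT'ne : T' ≠ ⊥ := fun e => hTne ((Subgroup.map_eq_bot_iff_of_injective T (MulAut.conj m).injective).1 e)
    have hR'2 : IsPGroup 2 R' := hR2.map _
    have hT'R' : T' ≤ R' := Subgroup.map_mono hTR
    have hR'N : R' ≤ Subgroup.normalizer (T' : Set G) := by
      rw [← hconjN]; exact Subgroup.map_mono (hRle.trans inf_le_left)
    have hloc' : IsTwoLocal (Subgroup.normalizer (T' : Set G)) := ⟨T', hT.map _, hT'ne, rfl⟩
    by_cases hRS : R' = S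
    · exact hover _ hloc' (hRS ▸ hR'N)
    have hlt : R' < S := lt_of_le_of_ne hmR hRS
    set S1 := S ⊓ Subgroup.normalizer (R' : Set G)
    have hS1 : R' < S1 := exists_bigger hS2 hlt
    have hcard : Nat.card R' < Nat.card S1 := (Subgroup.card_le_of_le hS1.le).lt_of_ne fun e =>
      hS1.ne (Subgroup.eq_of_le_of_card_ge hS1.le e.ge)
    have hk : 0 < k := by
      have h5 : Nat.card R' < Nat.card S := hcard.trans_le (Subgroup.card_le_of_le inf_le_left)
      have h6 : Nat.card P ≤ Nat.card R' := (Subgroup.card_le_of_le hPR).trans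
        (Subgroup.card_map_of_injective (MulAut.conj m).injective).ge
      omega
    have hN : ∀ X : Subgroup G, IsPGroup 2 X → X ≠ ⊥ → X ≤ S →
        Subgroup.normalizer (R' : Set G) ≤ Subgroup.normalizer (X : Set G) →
        Subgroup.normalizer (X : Set G) ≤ M0 := by
      intro X hX hXne hXS hle
      refine ih (k - 1) (Nat.sub_lt hk one_pos) X hX hXne (hXS.trans hSM)
        ⟨S1, le_inf (inf_le_right.trans hle) (inf_le_left.trans hSM), hS2.to_le inf_le_left, ?_⟩
      have h6 : Nat.card P ≤ Nat.card R' := (Subgroup.card_le_of_le hPR).trans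
        (Subgroup.card_map_of_injective (MulAut.conj m).injective).ge
      omega
    have hR'ne : R' ≠ ⊥ := fun e => hT'ne (le_bot_iff.1 (e ▸ hT'R'))
    have hNR : Subgroup.normalizer (R' : Set G) ≤ M0 := hN R' hR'2 hR'ne hmR le_rfl
    have hmaxL : ∀ Q : Subgroup G, IsPGroup 2 Q → R' ≤ Q → Q ≤ Subgroup.normalizer (T' : Set G) → Q = R' := by
      intro Q hQ hRQ hQN
      by_contra hne
      have h7 := exists_bigger hQ (lt_of_le_of_ne hRQ (Ne.symm hne))
      set Q1 := Q ⊓ Subgroup.normalizer (R' : Set G)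
      have hback : ∀ {a : Subgroup G}, cj m⁻¹ (cj m a) = a := fun {a} => by rw [cj_cj, inv_mul_cancel, cj_one]
      have h8 : cj m⁻¹ Q1 ≤ R := hR.le_of_ge ⟨(hQ.to_le inf_le_left).map _,
        hPR.trans (hback.ge.trans (Subgroup.map_mono h7.le)), le_inf
          ((Subgroup.map_mono (inf_le_left.trans hQN)).trans ((hconjN m⁻¹ T').trans_le (by rw [hback])))
          ((Subgroup.map_mono (inf_le_right.trans hNR)).trans (hcjM _ (M0.inv_mem hm)).le)⟩
        (hback.ge.trans (Subgroup.map_mono h7.le))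
      refine h7.not_ge fun x hx => ?_
      have := Subgroup.map_mono (f := (MulAut.conj m).toMonoidHom) h8
      change cj m (cj m⁻¹ Q1) ≤ R' at this
      rw [cj_cj, mul_inv_cancel, cj_one] at this
      exact this hx
    obtain ⟨hsol, hchar, hfree⟩ := hloc _ hloc'
    refine (factor hsol hfree hchar hR'2 hR'N hmaxL).trans (sup_le ?_ ?_)
    · refine (inf_le_right.trans (Subgroup.centralizer_le_normalizer _)).trans
        (hN _ (hR'2.to_le (zS_le R')) (zS_ne_bot hR'2 hR'ne) ((zS_le R').trans hmR) (normalizer_le_zS R'))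
    · refine inf_le_right.trans
        (hN _ (hR'2.to_le (jS_le R')) (fun e => zS_ne_bot hR'2 hR'ne ?_) ((jS_le R').trans hmR) (normalizer_le_jS R'))
      obtain ⟨A, hA⟩ := exists_max R'
      exact le_bot_iff.1 (e ▸ (zS_le_max hA).trans (le_jS hA))
  have hkey : ∀ T : Subgroup G, IsPGroup 2 T → T ≠ ⊥ → T ≤ M0 → Subgroup.normalizer (T : Set G) ≤ M0 :=
    fun T hT hne hTM => hstep (Nat.card S) T hT hne hTM
      ⟨⊥, bot_le, IsPGroup.of_bot, Nat.le_add_left _ _⟩
  -- `M` is a conjugate of `M0`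
  obtain ⟨⟨T, hT, hTne, hMT⟩, hMmax⟩ := hM
  obtain ⟨S', hS'⟩ := hT.exists_le_sylow
  obtain ⟨g, hg⟩ := MulAction.exists_smul_eq G S' S0
  have hgT : cj g T ≤ S := by
    rw [hSd, ← hg]
    exact Subgroup.map_mono hS'
  have hMeq : M = cj g⁻¹ M0 := by
    have hne' : cj g T ≠ ⊥ := fun e => hTne ((Subgroup.map_eq_bot_iff_of_injective T (MulAut.conj g).injective).1 e)
    have h1 := hkey _ (hT.map _) hne' (hgT.trans hSM)
    rw [← hconjN, ← hMT] at h1
    have h2 : M ≤ cj g⁻¹ M0 := by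
      have := Subgroup.map_mono (f := (MulAut.conj g⁻¹).toMonoidHom) h1
      change cj g⁻¹ (cj g M) ≤ _ at this
      rwa [cj_cj, inv_mul_cancel, cj_one] at this
    have h3 : IsTwoLocal (cj g⁻¹ M0) := ⟨cj g⁻¹ W, hW.isPGroup.map _,
      fun e => hWne ((Subgroup.map_eq_bot_iff_of_injective W (MulAut.conj g⁻¹).injective).1 e), hconjN _ _⟩
    exact (hMmax _ h3 h2).symm
  have hkeyM : ∀ T : Subgroup G, IsPGroup 2 T → T ≠ ⊥ → T ≤ M → Subgroup.normalizer (T : Set G) ≤ M := by
    intro T' hT' hne hle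
    have h1 := hkey (cj g T') (hT'.map _)
      (fun e => hne ((Subgroup.map_eq_bot_iff_of_injective T' (MulAut.conj g).injective).1 e))
      (fun x hx => by
        obtain ⟨y, hy, rfl⟩ := hx
        have := hle hy
        rw [hMeq, mem_cj, inv_inv] at this
        simpa using this)
    rw [← hconjN] at h1
    intro x hx
    rw [hMeq, mem_cj, inv_inv]
    exact h1 (conj_mem_cj hx)
  have hTM : T ≤ M := hMT ▸ Subgroup.le_normalizer
  refine ⟨fun e => hTne ?_, ?_, ?_⟩
  · haveI : T.Normal := Subgroup.normalizer_eq_top_iff.1 (hMT.symm.trans e)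
    exact le_bot_iff.1 (hO ▸ le_pCore hT)
  · obtain ⟨k, hk⟩ := IsPGroup.iff_card.1 hT
    rcases k with _ | k
    · exact absurd (Subgroup.card_eq_one.1 (hk.trans (pow_zero 2))) hTne
    exact even_iff_two_dvd.2 ((hk ▸ dvd_pow_self 2 k.succ_ne_zero).trans (Subgroup.card_dvd_of_le hTM))
  intro x hx
  by_contra hodd
  rw [Nat.not_odd_iff_even] at hodd
  set I := M ⊓ M.map (MulAut.conj x).toMonoidHom
  obtain ⟨PI⟩ : Nonempty (Sylow 2 I) := inferInstance
  set P := (PI : Subgroup I).map I.subtype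
  have hP2 : IsPGroup 2 P := PI.2.map _
  have hPne : P ≠ ⊥ := fun e => by
    have h2 := PI.dvd_card_of_dvd_card (even_iff_two_dvd.1 hodd)
    rw [show Nat.card (PI : Subgroup I) = 1 by
      rw [← Subgroup.card_map_of_injective I.subtype_injective]; exact Subgroup.card_eq_one.2 e] at h2
    norm_num at h2
  have hPI : P ≤ I := Subgroup.map_subtype_le _
  have hkeyx : Subgroup.normalizer (P : Set G) ≤ cj x M := by
    have h1 := hkeyM (cj x⁻¹ P) (hP2.map _)
      (fun e => hPne ((Subgroup.map_eq_bot_iff_of_injective P (MulAut.conj x⁻¹).injective).1 e))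
      (fun y hy => by
        obtain ⟨z, hz, rfl⟩ := hy
        have := (hPI hz).2
        change z ∈ cj x M at this
        rw [mem_cj] at this
        simpa using this)
    rw [← hconjN] at h1
    intro y hy
    rw [mem_cj]
    exact h1 (by have := conj_mem_cj (g := x⁻¹) hy; rwa [inv_inv] at this)
  have hNI : Subgroup.normalizer (P : Set G) ≤ I := le_inf (hkeyM P hP2 hPne (hPI.trans inf_le_left)) hkeyx
  obtain ⟨SG, hSG⟩ := hP2.exists_le_sylow
  have hPeq : P = (SG : Subgroup G) := by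
    by_contra hne
    have h7 := exists_bigger SG.2 (lt_of_le_of_ne hSG hne)
    set P1 := (SG : Subgroup G) ⊓ Subgroup.normalizer (P : Set G)
    have hP1I : P1 ≤ I := inf_le_right.trans hNI
    have h8 := PI.3 ((SG.2.to_le inf_le_left).comap_of_injective I.subtype I.subtype_injective)
      (fun y hy => h7.le ⟨y, hy, rfl⟩)
    refine h7.not_ge fun y hy => ?_
    refine ⟨⟨y, hP1I hy⟩, ?_, rfl⟩
    rw [← h8]
    exact hy
  -- both `P` and its conjugate are Sylow subgroups inside `M`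
  obtain ⟨SM1, hSM1⟩ := ((hP2).comap_of_injective M.subtype M.subtype_injective).exists_le_sylow (p := 2)
  obtain ⟨SM2, hSM2⟩ := ((hP2.map (MulAut.conj x⁻¹).toMonoidHom).comap_of_injective M.subtype M.subtype_injective).exists_le_sylow (p := 2)
  have hPM : P ≤ M := hPI.trans inf_le_left
  have hP'M : cj x⁻¹ P ≤ M := fun y hy => by
    obtain ⟨z, hz, rfl⟩ := hy
    have := (hPI hz).2
    change z ∈ cj x M at this
    rw [mem_cj] at this
    simpa using this
  have hbound : ∀ R : Sylow 2 M, Nat.card ((R : Subgroup M).map M.subtype) ≤ Nat.card (SG : Subgroup G) := by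
    intro R
    obtain ⟨Q, hQ⟩ := (R.2.map M.subtype).exists_le_sylow
    exact (Subgroup.card_le_of_le hQ).trans_eq (Q.card_eq_multiplicity.trans SG.card_eq_multiplicity.symm)
  have e1 : (SM1 : Subgroup M).map M.subtype = P := by
    refine (Subgroup.eq_of_le_of_card_ge (show P ≤ (SM1 : Subgroup M).map M.subtype from
      fun y hy => ⟨⟨y, hPM hy⟩, hSM1 hy, rfl⟩) ?_).symm
    rw [hPeq]
    exact hbound SM1
  have e2 : (SM2 : Subgroup M).map M.subtype = cj x⁻¹ P := by
    refine (Subgroup.eq_of_le_of_card_ge (show cj x⁻¹ P ≤ (SM2 : Subgroup M).map M.subtype from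
      fun y hy => ⟨⟨y, hP'M hy⟩, hSM2 hy, rfl⟩) ?_).symm
    rw [Subgroup.card_map_of_injective (f := (MulAut.conj x⁻¹).toMonoidHom) (MulAut.conj x⁻¹).injective, hPeq]
    exact hbound SM2
  obtain ⟨m, hm⟩ := MulAction.exists_smul_eq M SM1 SM2
  have hnorm : x * m ∈ Subgroup.normalizer (P : Set G) := by
    refine Local.mem_normalizer_of_map_conj_eq (Subgroup.eq_of_le_of_card_ge ?_
      (Subgroup.card_map_of_injective (MulAut.conj (x * (m : G))).injective).ge)
    refine Local.map_conj_le fun y hy => ?_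
    have h9 : (m : G) * y * (m : G)⁻¹ ∈ cj x⁻¹ P := by
      rw [← e2, ← hm]
      exact ⟨m * ⟨y, hPM hy⟩ * m⁻¹, ⟨⟨y, hPM hy⟩, hSM1 hy, rfl⟩, rfl⟩
    rw [mem_cj, inv_inv] at h9
    simpa [mul_assoc] using h9
  have hxm := hkeyM P hP2 hPne hPM hnorm
  exact hx (by simpa using M.mul_mem hxm (M.inv_mem m.2))

end CfsgLib.StrongEmbedS4
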