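import Cfsg.Agent.Lib.StrongEmbedS4.Config

/-!
The minimal configuration with `W` inside the 2-core is impossible.
-/

set_option autoImplicit false
set_option maxHeartbeats 1000000

namespace CfsgLib.StrongEmbedS4

open CfsgLib Cfsg
open scoped commutatorElement IsMulCommutative

universe u

variable {K : Type u} [Group K] [Finite K]

/-- An element of odd order moving an involution by a fixed involution fixes it. -/
theorem fix_of_odd {r v : K} (hr : Odd (orderOf r))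
    (hd2 : (r * v * r⁻¹ * v⁻¹) * (r * v * r⁻¹ * v⁻¹) = 1)
    (hd : r * (r * v * r⁻¹ * v⁻¹) = (r * v * r⁻¹ * v⁻¹) * r) : r * v = v * r := by
  have h1 := AbelianOffender.conj_pow_eq (g := r) (v := v) (d := r * v * r⁻¹ * v⁻¹) (by group)
    (mul_inv_eq_iff_eq_mul.2 hd) (orderOf r)
  rw [pow_orderOf_eq_one, one_mul, inv_one, mul_one, eq_comm, mul_eq_right] at h1
  have h2 := eq_one_of_sq_of_odd hd2 hr h1
  rwa [mul_inv_eq_one, mul_inv_eq_iff_eq_mul] at h2

variable {S : Sylow 2 K} {W A : Subgroup K}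

set_option linter.unusedVariables false in
/-- The case `W ≤ O₂`. -/
theorem case_in (h : Setting S W A) (hWQ : W ≤ pCore 2 K) : False := by
  haveI : Fact (Nat.Prime 2) := ⟨Nat.prime_two⟩
  haveI := h.sol
  set Q := pCore 2 K with hQdef
  have hQS : Q ≤ (S : Subgroup K) := pCore_le_sylow S
  have hQn : Q.Normal := inferInstance
  have hQ2 : IsPGroup 2 Q := isPGroup_pCore 2
  obtain ⟨R, hRodd, hRc, hDn, hRS⟩ := h.exists_odd
  -- the conjugates of `W`
  have hWgQ : ∀ g : K, cj g W ≤ Q := fun g => by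
    rintro _ ⟨x, hx, rfl⟩
    exact hQn.conj_mem x (hWQ hx) g
  have hQSg : ∀ g : K, Q ≤ cj g (S : Subgroup K) := fun g x hx =>
    mem_cj.2 (hQS (by simpa using hQn.conj_mem x hx g⁻¹))
  set V := conjSup W with hVdef
  haveI hVn : V.Normal := conjSup_normal W
  have hWV : W ≤ V := le_conjSup W
  have hVQ : V ≤ Q := conjSup_le hWgQ
  have hV : PairRank.EA 2 V := by
    letI := Fintype.ofFinite K
    refine ea_sup_finset _ _ (fun g _ => ea_cj h.hW g) fun i _ j _ => ?_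
    exact commute_of_pp (h.pp.conj i) (h.pp.conj j) ((hWgQ j).trans (hQSg i)) ((hWgQ i).trans (hQSg j))
      (ea_cj h.hW i) (ea_cj h.hW j)
  set CV := Subgroup.centralizer (V : Set K)
  have hCV : CV ⊔ (S : Subgroup K) ≠ ⊤ :=
    h.not_sup_le ((Subgroup.centralizer_le hWV).trans (Subgroup.centralizer_le_normalizer _))
  haveI : CV.Normal := Subgroup.normal_centralizer
  have hRV : ¬ R ≤ CV := fun hle => hCV (top_le_iff.1 (hRS ▸ sup_le_sup_right hle _))
  -- the offender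
  set A0 := A ⊓ Q with hA0def
  set CA := Subgroup.centralizer (A : Set K)
  set CA0 := Subgroup.centralizer (A0 : Set K)
  set ab := Q.relIndex A with hab
  set a0 := CV.relIndex A0 with ha0
  have hA0A : A0.relIndex A = ab := by rw [hA0def, inf_comm, Subgroup.inf_relIndex_right]
  have hr : CV.relIndex A = a0 * ab := by
    have hle : CV ⊓ A ≤ A0 := le_inf inf_le_right fun x hx => h.inf_le_pCore hCV ⟨h.hAS hx.2, hx.1⟩
    rw [← hA0A, ha0, ← Subgroup.inf_relIndex_right CV A, ← Subgroup.inf_relIndex_right CV A0]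
    have e : CV ⊓ A0 = CV ⊓ A :=
      le_antisymm (inf_le_inf_left _ inf_le_left) (le_inf inf_le_left hle)
    rw [e]
    exact (Subgroup.relIndex_mul_relIndex _ _ _ hle inf_le_left).symm
  have hup : CA.relIndex V ≤ a0 * ab := hr ▸ offender_le hV (hVQ.trans hQS) h.hA h.hAS h.hmax
  have hCA : CA ≤ CA0 := Subgroup.centralizer_le inf_le_left
  have hlow : a0 * a0 ≤ CA0.relIndex V := by
    letI := Fintype.ofFinite K
    exact telescope (h.hA.mono inf_le_left) _ _ fun g _ =>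
      ⟨cj g (S : Subgroup K), h.pp.conj g, inf_le_right.trans (hQSg g)⟩
  have hmono : CA0.relIndex V ≤ CA.relIndex V :=
    Subgroup.relIndex_le_of_le_left hCA Subgroup.index_ne_zero_of_finite
  -- the chief factor
  obtain ⟨V1, hV1⟩ := (Set.toFinite {N : Subgroup K | N.Normal ∧ N ≤ V ∧
    ¬ R ≤ Subgroup.centralizer (N : Set K)}).exists_minimal ⟨V, hVn, le_rfl, hRV⟩
  obtain ⟨hV1n, hV1V, hV1R⟩ := hV1.prop
  haveI := hV1n
  have hV1ne : V1 ≠ ⊥ := fun e => hV1R (by rw [e, centralizer_eq_top_of_bot]; exact le_top)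
  obtain ⟨V0, hV0⟩ := (Set.toFinite {N : Subgroup K | N.Normal ∧ N < V1}).exists_maximal
    ⟨⊥, inferInstance, bot_lt_iff_ne_bot.2 hV1ne⟩
  obtain ⟨hV0n, hV01⟩ := hV0.prop
  haveI := hV0n
  have hV0V : V0 ≤ V := hV01.le.trans hV1V
  have hRV0 : R ≤ Subgroup.centralizer (V0 : Set K) := by
    by_contra hne
    exact hV01.not_ge (hV1.le_of_le ⟨hV0n, hV0V, hne⟩ hV01.le)
  have hmid : ∀ Y : Subgroup K, Y.Normal → V0 ≤ Y → Y ≤ V1 → Y = V0 ∨ Y = V1 := by
    intro Y hY h0 h1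
    rcases eq_or_lt_of_le h1 with e | e
    · exact Or.inr e
    · exact Or.inl (le_antisymm (hV0.le_of_ge ⟨hY, e⟩ h0) h0)
  set π0 := QuotientGroup.mk' V0
  have hπ0 : ∀ x : K, π0 x = 1 ↔ x ∈ V0 := fun x => QuotientGroup.eq_one_iff x
  have hsurj : Function.Surjective π0 := QuotientGroup.mk'_surjective V0
  set F := V1.map π0
  haveI hFn : F.Normal := Subgroup.Normal.map hV1n π0 hsurj
  have hFne : F ≠ ⊥ := fun e => hV01.not_ge fun x hx =>
    (hπ0 x).1 ((Subgroup.eq_bot_iff_forall _).1 e _ ⟨x, hx, rfl⟩)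
  have hF : PairRank.EA 2 F := by
    refine ⟨?_, ?_⟩
    · rintro _ ⟨v, hv, rfl⟩ _ ⟨w, hw, rfl⟩
      rw [← map_mul, ← map_mul, hV.comm v (hV1V hv) w (hV1V hw)]
    · rintro _ ⟨v, hv, rfl⟩
      rw [← map_pow, hV.pow v (hV1V hv), map_one]
  -- fixed points of normal subgroups on the factor
  have hY : ∀ X : Subgroup K, X.Normal →
      (∀ v ∈ V1, ∀ x ∈ X, π0 x * π0 v = π0 v * π0 x) ∨
      (∀ v ∈ V1, (∀ x ∈ X, π0 x * π0 v = π0 v * π0 x) → v ∈ V0) := by
    intro X hX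
    haveI : (X.map π0).Normal := Subgroup.Normal.map hX π0 hsurj
    set Y := V1 ⊓ (Subgroup.centralizer ((X.map π0 : Subgroup (K ⧸ V0)) : Set (K ⧸ V0))).comap π0
    have hYn : Y.Normal := Subgroup.normal_inf_normal _ _
    have h0 : V0 ≤ Y := fun x hx => ⟨hV01.le hx, Subgroup.mem_comap.2 (by
      rw [(hπ0 x).2 hx]; exact one_mem _)⟩
    rcases hmid Y hYn h0 inf_le_left with e | e
    · refine Or.inr fun v hv hc => e ▸ (show v ∈ Y from ⟨hv, ?_⟩)
      rintro _ ⟨x, hx, rfl⟩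
      exact hc x hx
    · exact Or.inl fun v hv x hx => (e.ge hv).2 _ ⟨x, hx, rfl⟩
  have hQF : ∀ v ∈ V1, ∀ x ∈ Q, π0 x * π0 v = π0 v * π0 x := by
    rcases hY Q hQn with hq | hq
    · exact hq
    exfalso
    haveI := hFn
    obtain ⟨w, hwF, hw1, hwQ⟩ := AbelianTrace.exists_fixed hF.isPGroup (hQ2.map π0)
      (by rw [Subgroup.normalizer_eq_top]; exact le_top) hFne
    obtain ⟨v, hv, rfl⟩ := hwF
    exact hw1 ((hπ0 v).2 (hq v hv fun x hx => hwQ _ ⟨x, hx, rfl⟩))
  have hRF : ∀ v ∈ V1, (∀ r ∈ R, π0 r * π0 v = π0 v * π0 r) → v ∈ V0 := by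
    rcases hY (Q ⊔ R) hDn with hd | hd
    · exfalso
      refine hV1R fun r hr v hv => (fix_of_odd (hRodd r hr) ?_ ?_).symm
      · rw [← sq]
        exact hV.pow _ (V.mul_mem (hVn.conj_mem v (hV1V hv) r) (V.inv_mem (hV1V hv)))
      · refine (hRV0 hr _ ?_).symm
        rw [SetLike.mem_coe, ← hπ0, map_mul, map_mul, map_mul, map_inv, map_inv, hd v hv r (Subgroup.mem_sup_right hr),
          mul_inv_cancel_right, mul_inv_cancel]
    · intro v hv hc
      refine hd v hv fun x hx => ?_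
      have hle : Q ⊔ R ≤ (Subgroup.centralizer {π0 v}).comap π0 :=
        sup_le (fun q hq => Subgroup.mem_centralizer_singleton_iff.2 (hQF v hv q hq))
          (fun r hr => Subgroup.mem_centralizer_singleton_iff.2 (hc r hr))
      exact Subgroup.mem_centralizer_singleton_iff.1 (hle hx)
  -- the offence on the factor
  have hfree0 : ¬ Involves (Equiv.Perm (Fin 4)) (K ⧸ V0) := fun hi => h.free (ClassTwoSylow.involves_of_quotient hi)
  have hA' : PairRank.EA 2 (A.map π0) := by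
    refine ⟨?_, ?_⟩
    · rintro _ ⟨a, ha, rfl⟩ _ ⟨b, hb, rfl⟩
      rw [← map_mul, ← map_mul, h.hA.comm a ha b hb]
    · rintro _ ⟨a, ha, rfl⟩
      rw [← map_pow, h.hA.pow a ha, map_one]
  have hoff := off1 (K := K ⧸ V0) inferInstance hfree0 hF (imEA_of_ea (V := F) hA')
  set NF := (nOf F).comap π0
  haveI : NF.Normal := Subgroup.Normal.comap inferInstance π0
  have hNF : NF ⊔ (S : Subgroup K) ≠ ⊤ := by
    intro e
    refine hV01.not_ge fun v hv => hRF v hv fun r hr => ?_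
    obtain ⟨k, hk⟩ := pow_mem_of_mem_nOf (show π0 r ∈ nOf F from mem_of_sup_eq_top e (hRodd r hr))
    obtain ⟨j, hj⟩ := exists_pow_eq_self_of_coprime (n := 2 ^ k) (x := π0 r)
      (((Nat.coprime_two_right.2 (hRodd r hr)).coprime_dvd_left (orderOf_map_dvd π0 r)).pow_right k).symm
    rw [← hj]
    exact ((Subgroup.pow_mem _ hk j) _ ⟨v, hv, rfl⟩).symm
  have hab' : ab ≤ (nOf F).relIndex (A.map π0) := by
    rw [← Subgroup.relIndex_comap (nOf F) π0 A, ← hA0A, ← Subgroup.inf_relIndex_right NF A]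
    exact Subgroup.relIndex_le_of_le_left
      (le_inf inf_le_right fun x hx => h.inf_le_pCore hNF ⟨h.hAS hx.2, hx.1⟩) Subgroup.index_ne_zero_of_finite
  have hcard0 : ∀ D : Subgroup K, Nat.card ↥(V0 ⊓ D) * Nat.card (D.map π0) = Nat.card D := fun D => by
    rw [← Subgroup.relIndex_ker, QuotientGroup.ker_mk']
    exact Products.card_inf_mul_relIndex V0 D
  set q0 := CA.relIndex V0
  set q1 := CA.relIndex V1
  set qt := (V1 ⊔ (CA ⊓ V)).relIndex V
  have hq1 : ab * ab * q0 ≤ q1 := by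
    set CF := Subgroup.centralizer ((A.map π0 : Subgroup (K ⧸ V0)) : Set (K ⧸ V0))
    have e1 := card_eq_mul_relIndex CA V0
    have e2 := card_eq_mul_relIndex CA V1
    have e3 : Nat.card V0 * Nat.card F = Nat.card V1 := by
      have := hcard0 V1
      rwa [inf_eq_left.2 hV01.le] at this
    have e4 : Nat.card ↥(CA ⊓ V1) ≤ Nat.card ↥(CA ⊓ V0) * Nat.card ↥(F ⊓ CF) := by
      rw [← hcard0 (CA ⊓ V1)]
      refine Nat.mul_le_mul (Subgroup.card_le_of_le fun x hx => ⟨hx.2.1, hx.1⟩) (Subgroup.card_le_of_le ?_)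
      rintro _ ⟨v, ⟨hvc, hv⟩, rfl⟩
      refine ⟨⟨v, hv, rfl⟩, ?_⟩
      rintro _ ⟨a, ha, rfl⟩
      rw [← map_mul, ← map_mul, hvc a ha]
    refine Nat.le_of_mul_le_mul_left ?_ (Nat.card_pos : 0 < Nat.card ↥(CA ⊓ V1))
    calc Nat.card ↥(CA ⊓ V1) * (ab * ab * q0)
        ≤ Nat.card ↥(CA ⊓ V0) * Nat.card ↥(F ⊓ CF) * (ab * ab * q0) := Nat.mul_le_mul_right _ e4
      _ = Nat.card V0 * (ab * ab * Nat.card ↥(F ⊓ CF)) := by rw [← e1]; ring
      _ ≤ Nat.card V0 * Nat.card F :=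
          Nat.mul_le_mul_left _ ((Nat.mul_le_mul_right _ (Nat.mul_le_mul hab' hab')).trans hoff)
      _ = Nat.card ↥(CA ⊓ V1) * q1 := by rw [e3, e2]
  have hq : q1 * qt ≤ CA.relIndex V := by
    set Z := CA ⊓ V
    have hZV : V1 ⊔ Z ≤ V := sup_le hV1V inf_le_right
    rw [← Subgroup.inf_relIndex_right CA V, ← Subgroup.relIndex_mul_relIndex Z (V1 ⊔ Z) V le_sup_right hZV]
    refine Nat.mul_le_mul_right _ ?_
    have e : CA ⊓ (V1 ⊔ Z) = Z :=
      le_antisymm (inf_le_inf_left _ hZV) (le_inf inf_le_left le_sup_right)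
    refine le_trans (Subgroup.relIndex_le_of_le_right (le_sup_left : V1 ≤ V1 ⊔ Z) Subgroup.index_ne_zero_of_finite)
      (le_of_eq ?_)
    rw [← Subgroup.inf_relIndex_right, e]
  have habpos : 0 < ab := relIndex_pos' _ _
  have ha0pos : 0 < a0 := relIndex_pos' _ _
  have hq0pos : 0 < q0 := relIndex_pos' _ _
  have hqtpos : 0 < qt := relIndex_pos' _ _
  have hbig : ab * ab * q0 * qt ≤ a0 * ab := (Nat.mul_le_mul_right qt hq1).trans (hq.trans hup)
  have h1 : a0 ≤ ab := Nat.le_of_mul_le_mul_left (hlow.trans (hmono.trans hup)) ha0pos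
  have h2 : ab * ab * (q0 * qt) ≤ ab * ab * 1 := by
    rw [mul_one, ← mul_assoc]; exact hbig.trans (Nat.mul_le_mul_right _ h1)
  have h3 : q0 * qt ≤ 1 := Nat.le_of_mul_le_mul_left h2 (Nat.mul_pos habpos habpos)
  have hq0 : q0 = 1 := by nlinarith
  have hqt : qt = 1 := by nlinarith
  have ha0ab : a0 = ab := le_antisymm h1 (Nat.le_of_mul_le_mul_left
    (show ab * ab ≤ ab * a0 by nlinarith) habpos)
  have hfix : CA0 ⊓ V = CA ⊓ V := by
    refine (Subgroup.eq_of_le_of_card_ge (inf_le_inf_right _ hCA) ?_).symm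
    have e1 := card_eq_mul_relIndex CA V
    have e2 := card_eq_mul_relIndex CA0 V
    have h4 : CA.relIndex V ≤ CA0.relIndex V := hup.trans (by rw [← ha0ab]; exact hlow)
    refine Nat.le_of_mul_le_mul_right ?_ (relIndex_pos' CA0 V)
    rw [e2, ← e1]
    exact Nat.mul_le_mul_left _ h4
  have hAV0 : ∀ a ∈ A, ∀ v ∈ V0, a * v = v * a := fun a ha v hv => Subgroup.relIndex_eq_one.1 hq0 hv a ha
  have hVsplit : ∀ v ∈ V, ∃ v1 ∈ V1, ∃ z ∈ CA ⊓ V, v1 * z = v := fun v hv =>
    Subgroup.mem_sup_of_normal_left.1 (Subgroup.relIndex_eq_one.1 hqt hv)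
  -- `R` centralises `V / V1`
  set π1 := QuotientGroup.mk' V1
  haveI : (V.map π1).Normal := Subgroup.Normal.map hVn π1 (QuotientGroup.mk'_surjective _)
  set C2 := (Subgroup.centralizer ((V.map π1 : Subgroup (K ⧸ V1)) : Set (K ⧸ V1))).comap π1
  haveI : C2.Normal := Subgroup.Normal.comap inferInstance π1
  have hAC2 : A ≤ C2 := by
    rintro a ha _ ⟨v, hv, rfl⟩
    obtain ⟨v1, hv1, z, hz, rfl⟩ := hVsplit v hv
    rw [map_mul, show π1 v1 = 1 from (QuotientGroup.eq_one_iff v1).2 hv1, one_mul, ← map_mul, ← map_mul, hz.1 a ha]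
  have hC2 : C2 ⊔ (S : Subgroup K) = ⊤ := by
    by_contra hne
    exact h.hAQ fun a ha => h.inf_le_pCore hne ⟨h.hAS ha, hAC2 ha⟩
  have hfixcoset : ∀ v ∈ V, ∃ w ∈ V1, ∀ r ∈ R, r * (v * w) = v * w * r := by
    intro v hv
    obtain ⟨i, hi⟩ := hV.exists_card
    obtain ⟨w, hw, hvw⟩ := coprime_key (A := R) (K := V) (W := V1) (k := v)
      (by rw [Subgroup.normalizer_eq_top]; exact le_top) (by rw [hi]; exact hRc.pow_right i)
      (Or.inl inferInstance) hV1V (by rw [Subgroup.normalizer_eq_top]; exact le_top) hv (fun r hr => by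
        have hrC : π1 r ∈ Subgroup.centralizer ((V.map π1 : Subgroup (K ⧸ V1)) : Set (K ⧸ V1)) :=
          mem_of_sup_eq_top hC2 (hRodd r hr)
        have hf : v⁻¹ * r * v * r⁻¹ ∈ V1 := by
          rw [← QuotientGroup.eq_one_iff]
          show π1 _ = 1
          rw [map_mul, map_mul, map_mul, map_inv, map_inv, mul_assoc (π1 v)⁻¹, ← hrC _ ⟨v, hv, rfl⟩,
            inv_mul_cancel_left, mul_inv_cancel]
        have := (V1 ⊔ R).mul_mem (Subgroup.mem_sup_left hf) (Subgroup.mem_sup_right hr)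
        simpa using this)
    exact ⟨w, hw, fun r hr => hvw r hr⟩
  -- the subgroup `T`
  haveI : (V.map π0).Normal := Subgroup.Normal.map hVn π0 hsurj
  haveI : (Subgroup.centralizer (V0 : Set K)).Normal := Subgroup.normal_centralizer
  haveI : ((Subgroup.centralizer ((V.map π0 : Subgroup (K ⧸ V0)) : Set (K ⧸ V0))).comap π0).Normal :=
    Subgroup.Normal.comap inferInstance π0
  set T := Q ⊓ Subgroup.centralizer (V0 : Set K) ⊓
    (Subgroup.centralizer ((V.map π0 : Subgroup (K ⧸ V0)) : Set (K ⧸ V0))).comap π0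
  haveI hTn : T.Normal := Subgroup.normal_inf_normal _ _
  have hTQ : T ≤ Q := inf_le_left.trans inf_le_left
  have hT0 : ∀ t ∈ T, ∀ x ∈ V0, t * x = x * t := fun t ht x hx => (ht.1.2 x hx).symm
  have hTV : ∀ t ∈ T, ∀ v ∈ V, t * v * t⁻¹ * v⁻¹ ∈ V0 := by
    intro t ht v hv
    rw [← hπ0, map_mul, map_mul, map_mul, map_inv, map_inv, ← ht.2 _ ⟨v, hv, rfl⟩, mul_inv_cancel_right,
      mul_inv_cancel]
  have hA0T : A0 ≤ T := by
    rintro a ⟨ha, haQ⟩
    refine ⟨⟨haQ, fun v hv => (hAV0 a ha v hv).symm⟩, ?_⟩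
    rintro _ ⟨v, hv, rfl⟩
    obtain ⟨v1, hv1, z, hz, rfl⟩ := hVsplit v hv
    have hc : π0 a * π0 z = π0 z * π0 a := by rw [← map_mul, ← map_mul, hz.1 a ha]
    rw [map_mul, mul_assoc, ← hc, ← mul_assoc, ← mul_assoc, ← hQF v1 hv1 a haQ]
  have hTV1 : ¬ T ≤ Subgroup.centralizer (V1 : Set K) := by
    intro hle
    have h5 : V1 ≤ CA := fun v hv => by
      have h6 : v ∈ CA0 ⊓ V := ⟨fun a ha => ((hle (hA0T ha)) v hv).symm, hV1V hv⟩
      rw [hfix] at h6
      exact h6.1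
    have h7 : q1 = 1 := Subgroup.relIndex_eq_one.2 h5
    rw [h7, hq0, mul_one] at hq1
    exact h.hAQ (Subgroup.relIndex_eq_one.1 (show ab = 1 by nlinarith))
  set V0' := ⁅V1, T⁆ with hV0'
  have hgen : ∀ t ∈ T, ∀ v ∈ V1, t * v * t⁻¹ * v⁻¹ ∈ V0' := by
    intro t ht v hv
    have := V0'.inv_mem (Subgroup.commutator_mem_commutator hv ht)
    simpa [commutatorElement_def, mul_assoc] using this
  have hV0'le : V0' ≤ V0 := Subgroup.commutator_le.2 fun v hv t ht => by
    have := V0.inv_mem (hTV t ht v (hV1V hv))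
    simpa [commutatorElement_def, mul_assoc] using this
  have hV0'ne : V0' ≠ ⊥ := fun e => hTV1 (fun t ht v hv => by
    have h8 := hgen t ht v hv
    rw [e, Subgroup.mem_bot, mul_inv_eq_one, mul_inv_eq_iff_eq_mul] at h8
    exact h8.symm)
  obtain ⟨H, hHmax⟩ := (Set.toFinite {H : Subgroup K | H < V0' ∧
    (S : Subgroup K) ≤ Subgroup.normalizer (H : Set K)}).exists_maximal
    ⟨⊥, bot_lt_iff_ne_bot.2 hV0'ne, by rw [Subgroup.normalizer_eq_top]; exact le_top⟩
  obtain ⟨hH1, hHS⟩ := hHmax.prop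
  have hH0 : H ≤ V0 := hH1.le.trans hV0'le
  haveI hHn : H.Normal := normal_of_sup hRS (fun r hr => Subgroup.centralizer_le_normalizer _
    (fun x hx => hRV0 hr x (hH0 hx))) hHS
  set πH := QuotientGroup.mk' H
  have hπH : ∀ x : K, πH x = 1 ↔ x ∈ H := fun x => QuotientGroup.eq_one_iff x
  set X := V0'.map πH
  haveI : X.Normal := Subgroup.Normal.map inferInstance πH (QuotientGroup.mk'_surjective _)
  have hX : PairRank.EA 2 X := by
    refine ⟨?_, ?_⟩
    · rintro _ ⟨v, hv, rfl⟩ _ ⟨w, hw, rfl⟩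
      rw [← map_mul, ← map_mul, hV.comm v (hV0V (hV0'le hv)) w (hV0V (hV0'le hw))]
    · rintro _ ⟨v, hv, rfl⟩
      rw [← map_pow, hV.pow v (hV0V (hV0'le hv)), map_one]
  haveI : IsMulCommutative X := ⟨⟨fun a b => Subtype.ext (hX.comm a a.2 b b.2)⟩⟩
  have hXcard : Nat.card X ≤ 2 := by
    have hXne : X ≠ ⊥ := fun e => hH1.not_ge fun x hx =>
      (hπH x).1 ((Subgroup.eq_bot_iff_forall _).1 e _ ⟨x, hx, rfl⟩)
    obtain ⟨w, hwX, hw1, hwS⟩ := AbelianTrace.exists_fixed hX.isPGroup (S.2.map πH)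
      (by rw [Subgroup.normalizer_eq_top]; exact le_top) hXne
    set H' := (Subgroup.zpowers w).comap πH with hH'
    have hH'le : H' ≤ V0' := by
      intro x hx
      obtain ⟨v, hv, e⟩ := (Subgroup.zpowers_le.2 hwX) hx
      have h9 : x⁻¹ * v ∈ H := by rw [← hπH, map_mul, map_inv, ← e, inv_mul_cancel]
      have : x = v * (x⁻¹ * v)⁻¹ := by group
      rw [this]
      exact V0'.mul_mem hv (V0'.inv_mem (hH1.le h9))
    have hH'S : (S : Subgroup K) ≤ Subgroup.normalizer (H' : Set K) := by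
      intro s hs
      refine Local.mem_normalizer_of_map_conj_eq (Subgroup.eq_of_le_of_card_ge ?_
        (Subgroup.card_map_of_injective (MulAut.conj s).injective).ge)
      refine Local.map_conj_le fun x hx => ?_
      obtain ⟨i, hi⟩ := Subgroup.mem_zpowers_iff.1 (show πH x ∈ Subgroup.zpowers w from hx)
      refine Subgroup.mem_zpowers_iff.2 ⟨i, ?_⟩
      rw [map_mul, map_mul, map_inv, ← hi,
        ((show Commute (πH s) w from hwS _ ⟨s, hs, rfl⟩).zpow_right i).eq, mul_inv_cancel_right]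
    have hHH' : H ≤ H' := fun x hx => by
      show πH x ∈ Subgroup.zpowers w
      rw [(hπH x).2 hx]; exact one_mem _
    have heq : H' = V0' := by
      refine eq_of_le_of_not_lt hH'le fun hlt => hw1 ?_
      obtain ⟨v, hv, rfl⟩ := hwX
      exact (hπH v).2 (hHmax.le_of_ge ⟨hlt, hH'S⟩ hHH' (Subgroup.mem_zpowers (πH v)))
    have hle : X ≤ Subgroup.zpowers w := Subgroup.map_le_iff_le_comap.2 heq.ge
    refine (Subgroup.card_le_of_le hle).trans ?_
    rw [Nat.card_zpowers]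
    exact orderOf_le_of_pow_eq_one two_pos (hX.pow w hwX)
  -- the subgroup `E`
  set E := ⁅T, R⁆ with hEdef
  have hET : E ≤ T := commutator_le_of_le_normalizer (by rw [Subgroup.normalizer_eq_top]; exact le_top)
  have hEP : ∀ p ∈ V, (∀ r ∈ R, r * p = p * r) → ∀ e ∈ E, e * p = p * e := by
    intro p hp hRp
    suffices hle : E ≤ Subgroup.centralizer {p} from fun e he => Subgroup.mem_centralizer_singleton_iff.1 (hle he)
    refine Subgroup.commutator_le.2 fun t ht r hr => Subgroup.mem_centralizer_singleton_iff.2 ?_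
    set δ := t⁻¹ * p * t * p⁻¹ with hδd
    have hδ : δ ∈ V0 := by simpa [hδd] using hTV t⁻¹ (T.inv_mem ht) p hp
    have hrδ : r * δ = δ * r := ((hRV0 hr) δ hδ).symm
    have e1 : ⁅t, r⁆ * p * ⁅t, r⁆⁻¹ = p := by
      calc ⁅t, r⁆ * p * ⁅t, r⁆⁻¹ = t * r * t⁻¹ * (r⁻¹ * (p * r)) * t * r⁻¹ * t⁻¹ := by
            rw [commutatorElement_def]; group
        _ = t * r * t⁻¹ * p * t * r⁻¹ * t⁻¹ := by rw [← hRp r hr, inv_mul_cancel_left]
        _ = t * ((r * δ) * r⁻¹) * ((r * p) * r⁻¹) * t⁻¹ := by rw [hδd]; group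
        _ = t * δ * p * t⁻¹ := by rw [hrδ, hRp r hr, mul_inv_cancel_right, mul_inv_cancel_right]
        _ = p := by rw [hδd]; group
    exact mul_inv_eq_iff_eq_mul.1 e1
  have hdetect : ∀ v1 ∈ V1, (∀ e ∈ E, e * v1 * e⁻¹ * v1⁻¹ ∈ H) → v1 ∈ V0 := by
    intro v1 hv1 hall
    haveI : (T.map πH).Normal := Subgroup.Normal.map hTn πH (QuotientGroup.mk'_surjective _)
    set Y := V1 ⊓ (Subgroup.centralizer ((T.map πH : Subgroup (K ⧸ H)) : Set (K ⧸ H))).comap πH
    have hYn : Y.Normal := Subgroup.normal_inf_normal _ _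
    have hY0 : V0 ≤ Y := by
      intro x hx
      refine ⟨hV01.le hx, ?_⟩
      rintro _ ⟨t, ht, rfl⟩
      rw [← map_mul, ← map_mul, hT0 t ht x hx]
    have hYV0 : Y = V0 := by
      refine (hmid Y hYn hY0 inf_le_left).resolve_right fun e => hH1.not_ge ?_
      refine Subgroup.commutator_le.2 fun v hv t ht => ?_
      have h10 := (e.ge hv).2 _ ⟨t, ht, rfl⟩
      rw [← hπH, commutatorElement_def, map_mul, map_mul, map_mul, map_inv, map_inv, ← h10,
        mul_inv_cancel_right, mul_inv_cancel]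
    refine hRF v1 hv1 fun r hr => ?_
    set w := r⁻¹ * v1 * r with hwd
    have hw : w ∈ V1 := by simpa [hwd] using hV1n.conj_mem v1 hv1 r⁻¹
    have hu : v1 * w ∈ Y := by
      refine ⟨V1.mul_mem hv1 hw, ?_⟩
      rintro _ ⟨t, ht, rfl⟩
      set δ := t⁻¹ * w * t * w⁻¹ with hδd
      have hδ : δ ∈ V0 := by simpa [hδd] using hTV t⁻¹ (T.inv_mem ht) w (hV1V hw)
      have htδ : t * δ = δ * t := hT0 t ht δ hδ
      have hδw : t * w * t⁻¹ = δ⁻¹ * w := by
        calc t * w * t⁻¹ = δ⁻¹ * ((t * δ) * t⁻¹) * (t * w * t⁻¹) := by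
              rw [htδ, mul_inv_cancel_right, inv_mul_cancel, one_mul]
          _ = _ := by rw [hδd]; group
      have hδi : δ⁻¹ = δ := inv_eq_of_mul_eq_one_right (by rw [← sq]; exact hV.pow δ (hV0V hδ))
      have hrδ : r * δ = δ * r := ((hRV0 hr) δ hδ).symm
      have e1 : ⁅t, r⁆ * v1 * ⁅t, r⁆⁻¹ = δ * (t * v1 * t⁻¹) := by
        calc ⁅t, r⁆ * v1 * ⁅t, r⁆⁻¹ = t * ((r * δ) * r⁻¹) * v1 * t⁻¹ := by
              rw [commutatorElement_def, hδd, hwd]; group
          _ = _ := by rw [hrδ, mul_inv_cancel_right, htδ]; group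
      have e2 : t * (v1 * w) * t⁻¹ * (v1 * w)⁻¹ = ⁅t, r⁆ * v1 * ⁅t, r⁆⁻¹ * v1⁻¹ := by
        have hc : v1⁻¹ * δ = δ * v1⁻¹ := hV.comm _ (V.inv_mem (hV1V hv1)) _ (hV0V hδ)
        have hc2 : t * v1 * t⁻¹ * δ = δ * (t * v1 * t⁻¹) :=
          hV.comm _ (hVn.conj_mem v1 (hV1V hv1) t) _ (hV0V hδ)
        calc t * (v1 * w) * t⁻¹ * (v1 * w)⁻¹ = t * v1 * t⁻¹ * (t * w * t⁻¹) * w⁻¹ * v1⁻¹ := by group
          _ = t * v1 * t⁻¹ * δ * v1⁻¹ := by rw [hδw, hδi, ← mul_assoc, mul_inv_cancel_right]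
          _ = _ := by rw [hc2, e1]
      have h11 := hall ⁅t, r⁆ (Subgroup.commutator_mem_commutator ht hr)
      rw [← e2, ← hπH, map_mul _ (t * (v1 * w) * t⁻¹), map_mul _ (t * (v1 * w)), map_mul _ t, map_inv, map_inv,
        mul_inv_eq_one, mul_inv_eq_iff_eq_mul] at h11
      exact h11
    rw [hYV0] at hu
    have h12 : π0 v1 * π0 w = 1 := by rw [← map_mul]; exact (hπ0 _).2 hu
    have h13 : π0 v1 * π0 v1 = 1 := by
      rw [← map_mul, ← sq, hV.pow v1 (hV1V hv1), map_one]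
    have h14 : π0 w = π0 v1 := mul_left_cancel (h12.trans h13.symm)
    rw [hwd, map_mul, map_mul, map_inv, mul_assoc, inv_mul_eq_iff_eq_mul] at h14
    exact h14.symm
  -- the pairing
  have hsplit : ∀ v ∈ V, ∃ v1 ∈ V1, ∀ e ∈ E, e * v * e⁻¹ * v⁻¹ = e * v1 * e⁻¹ * v1⁻¹ := by
    intro v hv
    obtain ⟨w, hw, hvw⟩ := hfixcoset v hv
    refine ⟨w⁻¹, V1.inv_mem hw, fun e he => ?_⟩
    have hc := hEP (v * w) (V.mul_mem hv (hV1V hw)) hvw e he
    calc e * v * e⁻¹ * v⁻¹ = (e * (v * w)) * w⁻¹ * e⁻¹ * v⁻¹ := by group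
      _ = (v * w) * (e * w⁻¹ * e⁻¹ * w) * (v * w)⁻¹ := by rw [hc]; group
      _ = e * w⁻¹ * e⁻¹ * w := by
          rw [hV.comm (v * w) (V.mul_mem hv (hV1V hw)) _
            (V.mul_mem (hVn.conj_mem _ (V.inv_mem (hV1V hw)) e) (hV1V hw)), mul_inv_cancel_right]
      _ = _ := by rw [inv_inv]
  have hβX : ∀ e : E, ∀ w : W, πH ((e : K) * w * (e : K)⁻¹ * (w : K)⁻¹) ∈ X := by
    intro e w
    obtain ⟨v1, hv1, heq⟩ := hsplit w (hWV w.2)
    rw [heq e e.2]
    exact ⟨_, hgen e (hET e.2) v1 hv1, rfl⟩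
  let f : E →* W →* X := MonoidHom.mk' (fun e => MonoidHom.mk' (fun w => ⟨_, hβX e w⟩) fun w w' => Subtype.ext (by
    show πH _ = πH _ * πH _
    rw [← map_mul, Subgroup.coe_mul]
    refine congrArg πH ?_
    have hm : (e : K) * w' * (e : K)⁻¹ * (w' : K)⁻¹ ∈ V :=
      V.mul_mem (hVn.conj_mem _ (hWV w'.2) _) (V.inv_mem (hWV w'.2))
    calc (e : K) * (w * w') * (e : K)⁻¹ * ((w : K) * w')⁻¹
        = (e : K) * w * (e : K)⁻¹ * (((e : K) * w' * (e : K)⁻¹ * (w' : K)⁻¹) * (w : K)⁻¹) := by group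
      _ = _ := by rw [hV.comm _ hm _ (V.inv_mem (hWV w.2)), ← mul_assoc]))
    fun e e' => MonoidHom.ext fun w => Subtype.ext (by
      show πH _ = πH _ * πH _
      rw [← map_mul, Subgroup.coe_mul]
      refine congrArg πH ?_
      have hd := hTV e' (hET e'.2) w (hWV w.2)
      set d := (e' : K) * w * (e' : K)⁻¹ * (w : K)⁻¹ with hdd
      have hed := hT0 e (hET e.2) d hd
      calc (e : K) * e' * w * ((e : K) * e')⁻¹ * (w : K)⁻¹
          = (e : K) * d * (e : K)⁻¹ * ((e : K) * w * (e : K)⁻¹ * (w : K)⁻¹) := by rw [hdd]; group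
        _ = d * ((e : K) * w * (e : K)⁻¹ * (w : K)⁻¹) := by rw [hed, mul_inv_cancel_right]
        _ = _ := hV.comm _ (hV0V hd) _ (V.mul_mem (hVn.conj_mem _ (hWV w.2) _) (V.inv_mem (hWV w.2))))
  have hL : ∀ w : W, w ∈ (Subgroup.centralizer (E : Set K)).subgroupOf W ↔ ∀ e, f e w = 1 := by
    intro w
    constructor
    · intro hw e
      refine Subtype.ext ?_
      show πH _ = 1
      rw [show (e : K) * (w : K) = (w : K) * e from hw e e.2, mul_inv_cancel_right, mul_inv_cancel, map_one]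
    · intro hw
      obtain ⟨v, hv, hvw⟩ := hfixcoset w (hWV w.2)
      have hall : ∀ e ∈ E, e * v⁻¹ * e⁻¹ * v⁻¹⁻¹ ∈ H := by
        intro e he
        have h15 : πH (e * (w : K) * e⁻¹ * (w : K)⁻¹) = 1 := congrArg Subtype.val (hw ⟨e, he⟩)
        have hc := hEP ((w : K) * v) (V.mul_mem (hWV w.2) (hV1V hv)) hvw e he
        have e3 : e * (w : K) * e⁻¹ * (w : K)⁻¹ = e * v⁻¹ * e⁻¹ * v⁻¹⁻¹ := by
          calc e * (w : K) * e⁻¹ * (w : K)⁻¹ = (e * ((w : K) * v)) * v⁻¹ * e⁻¹ * (w : K)⁻¹ := by group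
            _ = ((w : K) * v) * (e * v⁻¹ * e⁻¹ * v) * ((w : K) * v)⁻¹ := by rw [hc]; group
            _ = _ := by
                rw [hV.comm ((w : K) * v) (V.mul_mem (hWV w.2) (hV1V hv)) _
                  (V.mul_mem (hVn.conj_mem _ (V.inv_mem (hV1V hv)) e) (hV1V hv)), mul_inv_cancel_right, inv_inv]
        rwa [← hπH, ← e3]
      have hv0 : v⁻¹ ∈ V0 := hdetect _ (V1.inv_mem hv) hall
      intro e he
      have hvr : ∀ r ∈ R, r * (w : K) = (w : K) * r := fun r hr => by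
        have h16 : Commute r ((w : K) * v) := hvw r hr
        have h17 : Commute r v⁻¹ := ((hRV0 hr) _ hv0).symm
        simpa using (h16.mul_right h17).eq
      exact hEP w (hWV w.2) hvr e he
  have hpair := pairing hXcard f hL (R := (Subgroup.centralizer (W : Set K)).subgroupOf E)
    fun e he w => Subtype.ext (by
      show πH _ = 1
      rw [← show (w : K) * (e : K) = (e : K) * w from he w w.2, mul_inv_cancel_right, mul_inv_cancel, map_one])
  have hEI : ImEA W E := by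
    have htr : ∀ e ∈ E, ∀ v ∈ V, ∃ d ∈ V0, e * v * e⁻¹ = d * v := fun e he v hv =>
      ⟨_, hTV e (hET he) v hv, by group⟩
    refine ⟨fun e he w hw => ?_, fun e he e' he' w hw => ?_⟩
    · obtain ⟨d, hd, hde⟩ := htr e he w (hWV hw)
      have hed := hT0 e (hET he) d hd
      have : e * e * w * (e * e)⁻¹ = w := by
        calc e * e * w * (e * e)⁻¹ = e * (e * w * e⁻¹) * e⁻¹ := by group
          _ = e * (d * w) * e⁻¹ := by rw [hde]
          _ = e * d * e⁻¹ * (e * w * e⁻¹) := by group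
          _ = w := by rw [hed, mul_inv_cancel_right, hde, ← mul_assoc, ← sq, hV.pow d (hV0V hd), one_mul]
      exact (mul_inv_eq_iff_eq_mul.1 this).symm
    · obtain ⟨d, hd, hde⟩ := htr e he w (hWV hw)
      obtain ⟨d', hd', hde'⟩ := htr e' he' w (hWV hw)
      have hed : e * d' = d' * e := hT0 e (hET he) d' hd'
      have hed' : e' * d = d * e' := hT0 e' (hET he') d hd
      have e4 : e * e' * w * (e * e')⁻¹ = e' * e * w * (e' * e)⁻¹ := by
        calc e * e' * w * (e * e')⁻¹ = e * (e' * w * e'⁻¹) * e⁻¹ := by group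
          _ = (e * d') * e⁻¹ * (e * w * e⁻¹) := by rw [hde']; group
          _ = d' * (d * w) := by rw [hed, mul_inv_cancel_right, hde]
          _ = d * (d' * w) := by rw [← mul_assoc, hV.comm _ (hV0V hd') _ (hV0V hd), mul_assoc]
          _ = (e' * d) * e'⁻¹ * (e' * w * e'⁻¹) := by rw [hed', mul_inv_cancel_right, hde']
          _ = e' * (e * w * e⁻¹) * e'⁻¹ := by rw [hde]; group
          _ = _ := by group
      have : e * e' * e⁻¹ * e'⁻¹ * w * (e * e' * e⁻¹ * e'⁻¹)⁻¹ = w := by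
        calc e * e' * e⁻¹ * e'⁻¹ * w * (e * e' * e⁻¹ * e'⁻¹)⁻¹
            = e * e' * ((e' * e)⁻¹ * w * (e' * e)) * (e * e')⁻¹ := by group
          _ = w := by
            have e6 : (e * e')⁻¹ * w * (e * e') = (e' * e)⁻¹ * w * (e' * e) := by
              obtain ⟨d2, hd2, hde2⟩ := htr (e * e') (E.mul_mem he he') w (hWV hw)
              have hA1 : (e * e') * d2 = d2 * (e * e') := hT0 _ (hET (E.mul_mem he he')) d2 hd2
              have hB1 : (e' * e) * d2 = d2 * (e' * e) := hT0 _ (hET (E.mul_mem he' he)) d2 hd2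
              have hde3 : e' * e * w * (e' * e)⁻¹ = d2 * w := e4 ▸ hde2
              have fA : (e * e')⁻¹ * w * (e * e') = d2⁻¹ * w := by
                calc (e * e')⁻¹ * w * (e * e') = (e * e')⁻¹ * (d2⁻¹ * (d2 * w)) * (e * e') := by group
                  _ = (e * e')⁻¹ * (d2⁻¹ * (e * e')) * w := by rw [← hde2]; group
                  _ = _ := by
                    rw [show d2⁻¹ * (e * e') = e * e' * d2⁻¹ from ((Commute.inv_right hA1).eq).symm, inv_mul_cancel_left]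
              have fB : (e' * e)⁻¹ * w * (e' * e) = d2⁻¹ * w := by
                calc (e' * e)⁻¹ * w * (e' * e) = (e' * e)⁻¹ * (d2⁻¹ * (d2 * w)) * (e' * e) := by group
                  _ = (e' * e)⁻¹ * (d2⁻¹ * (e' * e)) * w := by rw [← hde3]; group
                  _ = _ := by
                    rw [show d2⁻¹ * (e' * e) = e' * e * d2⁻¹ from ((Commute.inv_right hB1).eq).symm, inv_mul_cancel_left]
              rw [fA, fB]
            rw [← e6]; group
      exact (mul_inv_eq_iff_eq_mul.1 this).symm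
  have hPE := h.pp E (hET.trans (hTQ.trans hQS)) hEI
  set e := (Subgroup.centralizer (W : Set K)).relIndex E
  set q := (Subgroup.centralizer (E : Set K)).relIndex W
  have hq2 : q ≤ e := by
    refine Nat.le_of_mul_le_mul_left ?_ (Nat.card_pos : 0 < Nat.card ↥(Subgroup.centralizer (E : Set K) ⊓ W))
    rw [card_eq_mul_relIndex]
    refine hpair.trans (le_of_eq ?_)
    rw [← Subgroup.inf_subgroupOf_right, Nat.card_congr (Subgroup.subgroupOfEquivOfLe inf_le_right).toEquiv]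
    rfl
  have he1 : e = 1 := by
    have hepos : 0 < e := relIndex_pos' _ _
    exact le_antisymm (Nat.le_of_mul_le_mul_left (by simpa using hPE.trans hq2) hepos) hepos
  have hRW : R ≤ Subgroup.centralizer (W : Set K) := by
    intro r hr w hw
    obtain ⟨v, hv, hvw⟩ := hfixcoset w (hWV hw)
    have hall : ∀ e ∈ E, e * v⁻¹ * e⁻¹ * v⁻¹⁻¹ ∈ H := by
      intro x hx
      have hxw : x * w = w * x := ((Subgroup.relIndex_eq_one.1 he1 hx) w hw).symm
      have hxp := hEP (w * v) (V.mul_mem (hWV hw) (hV1V hv)) hvw x hx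
      have hxv : x * v = v * x := by
        calc x * v = w⁻¹ * ((w * x) * v) := by group
          _ = w⁻¹ * (x * (w * v)) := by rw [← hxw]; group
          _ = v * x := by rw [hxp]; group
      rw [(Commute.inv_right hxv : Commute x v⁻¹).eq, mul_inv_cancel_right, mul_inv_cancel]
      exact one_mem _
    have h16 : Commute r (w * v) := hvw r hr
    have h17 : Commute r v⁻¹ := ((hRV0 hr) _ (hdetect _ (V1.inv_mem hv) hall)).symm
    simpa using (h16.mul_right h17).eq.symm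
  exact h.notNormal (normal_of_sup hRS (hRW.trans (Subgroup.centralizer_le_normalizer _)) h.hSW)

end CfsgLib.StrongEmbedS4
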