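import Cfsg.Agent.Lib.StrongEmbedS4.CaseIn
import Cfsg.Agent.Lib.PairRank.Local

/-!
Conjugates of `W` meet the 2-core in commuting subgroups; the minimal configuration with `W` outside
the 2-core is impossible.
-/

set_option autoImplicit false
set_option maxHeartbeats 800000

namespace CfsgLib.StrongEmbedS4

open CfsgLib Cfsg
open scoped commutatorElement IsMulCommutative

universe u

variable {K : Type u} [Group K] [Finite K]

omit [Finite K] in
theorem centralizer_subgroupOf {L W : Subgroup K} (hW : W ≤ L) :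
    (Subgroup.centralizer (W : Set K)).subgroupOf L = Subgroup.centralizer (W.subgroupOf L : Set L) := by
  ext x
  constructor
  · intro hx y hy
    exact Subtype.ext (hx (y : K) hy)
  · intro hx y hy
    exact congrArg Subtype.val (hx ⟨y, hW hy⟩ hy)

theorem PP.restrict {W P L : Subgroup K} (h : PP W P) (hW : W ≤ L) :
    PP (W.subgroupOf L) (P.subgroupOf L) := by
  intro A hA hI
  have hmap : (W.subgroupOf L).map L.subtype = W := Subgroup.map_subgroupOf_eq_of_le hW
  have hA' : A.map L.subtype ≤ P := Subgroup.map_le_iff_le_comap.2 hA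
  have hI' : ImEA W (A.map L.subtype) := by
    refine ⟨?_, ?_⟩
    · rintro _ ⟨a, ha, rfl⟩
      have := hI.1 a ha
      rw [← centralizer_subgroupOf hW] at this
      exact this
    · rintro _ ⟨a, ha, rfl⟩ _ ⟨b, hb, rfl⟩
      have := hI.2 a ha b hb
      rw [← centralizer_subgroupOf hW] at this
      exact this
  have h1 := h _ hA' hI'
  have e1 : (Subgroup.centralizer (W.subgroupOf L : Set L)).relIndex A =
      (Subgroup.centralizer (W : Set K)).relIndex (A.map L.subtype) := by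
    rw [← centralizer_subgroupOf hW]
    exact Subgroup.relIndex_comap _ L.subtype A
  have e2 : (Subgroup.centralizer (A : Set L)).relIndex (W.subgroupOf L) =
      (Subgroup.centralizer (A.map L.subtype : Set K)).relIndex W := by
    have hc : Subgroup.centralizer (A : Set L) =
        (Subgroup.centralizer (A.map L.subtype : Set K)).comap L.subtype := by
      ext x
      constructor
      · rintro hx _ ⟨a, ha, rfl⟩
        exact congrArg Subtype.val (hx a ha)
      · intro hx a ha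
        exact Subtype.ext (hx _ ⟨a, ha, rfl⟩)
    rw [hc, Subgroup.relIndex_comap, hmap]
  rw [e1, e2]
  exact h1

theorem PP.mono {W S T : Subgroup K} (h : PP W S) (hT : T ≤ S) : PP W T := fun A hA => h A (hA.trans hT)

/-- A pair of elementary abelian subgroups over a normal 2-subgroup, with maximal 2-subgroups. -/
structure Pair (L : Type u) [Group L] (Q W1 W2 : Subgroup L) : Prop where
  Qn : Q.Normal
  Q2 : IsPGroup 2 Q
  e1 : PairRank.EA 2 W1
  e2 : PairRank.EA 2 W2
  n1 : Q ≤ Subgroup.normalizer (W1 : Set L)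
  n2 : Q ≤ Subgroup.normalizer (W2 : Set L)
  max1 : ∀ P : Subgroup L, IsPGroup 2 P → Q ⊔ W1 ≤ P → P = Q ⊔ W1
  max2 : ∀ P : Subgroup L, IsPGroup 2 P → Q ⊔ W2 ≤ P → P = Q ⊔ W2
  pp1 : PP W1 (Q ⊔ W1)
  pp2 : PP W2 (Q ⊔ W2)

theorem Pair.restrict {Q W1 W2 : Subgroup K} (h : Pair K Q W1 W2) {L : Subgroup K}
    (hQ : Q ≤ L) (h1 : W1 ≤ L) (h2 : W2 ≤ L) :
    Pair L (Q.subgroupOf L) (W1.subgroupOf L) (W2.subgroupOf L) := by
  haveI := h.Qn
  have hea : ∀ {W : Subgroup K}, PairRank.EA 2 W → PairRank.EA 2 (W.subgroupOf L) := fun hW =>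
    ⟨fun x hx y hy => Subtype.ext (hW.comm _ hx _ hy), fun x hx => Subtype.ext (by
      rw [SubmonoidClass.coe_pow]; exact hW.pow _ hx)⟩
  have hn : ∀ {W : Subgroup K}, Q ≤ Subgroup.normalizer (W : Set K) →
      Q.subgroupOf L ≤ Subgroup.normalizer (W.subgroupOf L : Set L) := fun hW x hx =>
    Subgroup.mem_normalizer_iff.2 fun y => (Subgroup.mem_normalizer_iff.1 (hW hx) (y : K))
  have hmax : ∀ {W : Subgroup K}, W ≤ L → (∀ P : Subgroup K, IsPGroup 2 P → Q ⊔ W ≤ P → P = Q ⊔ W) →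
      ∀ P : Subgroup L, IsPGroup 2 P → Q.subgroupOf L ⊔ W.subgroupOf L ≤ P → P = Q.subgroupOf L ⊔ W.subgroupOf L := by
    intro W hW hm P hP hle
    have h3 := hm (P.map L.subtype) (hP.map _) (by
      have := Subgroup.map_mono (f := L.subtype) hle
      rwa [Subgroup.map_sup, Subgroup.map_subgroupOf_eq_of_le hQ, Subgroup.map_subgroupOf_eq_of_le hW] at this)
    rw [← Subgroup.comap_map_eq_self_of_injective L.subtype_injective P, h3]
    exact Subgroup.subgroupOf_sup hQ hW
  refine ⟨inferInstance, h.Q2.comap_of_injective L.subtype L.subtype_injective, hea h.e1, hea h.e2, hn h.n1, hn h.n2,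
    hmax h1 h.max1, hmax h2 h.max2, ?_, ?_⟩
  · rw [← Subgroup.subgroupOf_sup hQ h1]; exact h.pp1.restrict h1
  · rw [← Subgroup.subgroupOf_sup hQ h2]; exact h.pp2.restrict h2

theorem cores_commute : ∀ (n : ℕ) (L : Type u) [Group L] [Finite L], Nat.card L = n → Group.IsSolvable L →
    ¬ Involves (Equiv.Perm (Fin 4)) L → ∀ Q W1 W2 : Subgroup L, Pair L Q W1 W2 →
    ∀ x ∈ W1 ⊓ pCore 2 L, ∀ y ∈ W2 ⊓ pCore 2 L, x * y = y * x := by
  intro n
  induction n using Nat.strong_induction_on with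
  | _ n ih =>
  intro L _ _ hn hsol hfree Q W1 W2 h
  haveI : Fact (Nat.Prime 2) := ⟨Nat.prime_two⟩
  haveI := hsol
  haveI := h.Qn
  have hrec : ∀ M : Subgroup L, M ≠ ⊤ → ∀ W3 : Subgroup L, Pair L Q W1 W3 → Q ≤ M → W1 ≤ M → W3 ≤ M →
      ∀ x ∈ W1 ⊓ pCore 2 L, ∀ y ∈ W3 ⊓ pCore 2 L, x * y = y * x := by
    intro M hM W3 h3 hQM h1M h3M x hx y hy
    have hlt : Nat.card M < n := hn ▸
      (Subgroup.card_le_card_group M).lt_of_ne fun e => hM (Subgroup.eq_top_of_card_eq M e)
    have hfM : ¬ Involves (Equiv.Perm (Fin 4)) M := fun hi => hfree (ThompsonComplement.involves_of_subgroup hi)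
    haveI : ((pCore 2 L).subgroupOf M).Normal := Subgroup.Normal.subgroupOf inferInstance M
    have hcore : (pCore 2 L).subgroupOf M ≤ pCore 2 M :=
      le_pCore ((isPGroup_pCore 2).comap_of_injective M.subtype M.subtype_injective)
    exact congrArg Subtype.val (ih _ hlt M rfl inferInstance hfM _ _ _ (h3.restrict hQM h1M h3M)
      ⟨x, h1M hx.1⟩ ⟨hx.1, hcore hx.2⟩ ⟨y, h3M hy.1⟩ ⟨hy.1, hcore hy.2⟩)
  by_cases htop : Q ⊔ W1 ⊔ W2 = ⊤
  swap
  · exact hrec _ htop W2 h (le_sup_left.trans le_sup_left) (le_sup_right.trans le_sup_left) le_sup_right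
  set O := pCore 2 L with hO
  haveI hOn : O.Normal := inferInstance
  have hO2 : IsPGroup 2 O := isPGroup_pCore 2
  have hQO : Q ≤ O := le_pCore h.Q2
  set P1 := Q ⊔ W1 with hP1
  set P2 := Q ⊔ W2 with hP2
  have hP1p : IsPGroup 2 P1 := h.Q2.to_sup_of_normal_left h.e1.isPGroup
  have hP2p : IsPGroup 2 P2 := h.Q2.to_sup_of_normal_left h.e2.isPGroup
  have hOP1 : O ≤ P1 := le_sup_right.trans (h.max1 _ (hP1p.to_sup_of_normal_right hO2) le_sup_left).le
  have hOP2 : O ≤ P2 := le_sup_right.trans (h.max2 _ (hP2p.to_sup_of_normal_right hO2) le_sup_left).le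
  have hON1 : O ≤ Subgroup.normalizer (W1 : Set L) := hOP1.trans (sup_le h.n1 Subgroup.le_normalizer)
  have hON2 : O ≤ Subgroup.normalizer (W2 : Set L) := hOP2.trans (sup_le h.n2 Subgroup.le_normalizer)
  set B1 := W1 ⊓ O with hB1
  set B2 := W2 ⊓ O with hB2
  set Dd := B1 ⊔ B2 with hDd
  have hcomm : ∀ {W : Subgroup L}, O ≤ Subgroup.normalizer (W : Set L) → ∀ w ∈ W, ∀ o ∈ O,
      w * o * w⁻¹ * o⁻¹ ∈ W ⊓ O := by
    intro W hW w hw o ho
    refine ⟨?_, O.mul_mem (hOn.conj_mem o ho w) (O.inv_mem ho)⟩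
    have h1 := (Subgroup.mem_normalizer_iff.1 (hW ho) w⁻¹).1 (W.inv_mem hw)
    simpa [mul_assoc] using W.mul_mem hw h1
  have hnd : ∀ g : L, (∀ x ∈ B1, g * x * g⁻¹ ∈ Dd) → (∀ x ∈ B2, g * x * g⁻¹ ∈ Dd) →
      g ∈ Subgroup.normalizer (Dd : Set L) := by
    intro g h1 h2
    refine Local.mem_normalizer_of_map_conj_eq (Subgroup.eq_of_le_of_card_ge ?_
      (Subgroup.card_map_of_injective (MulAut.conj g).injective).ge)
    rw [hDd, Subgroup.map_sup]
    exact sup_le (Local.map_conj_le h1) (Local.map_conj_le h2)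
  haveI hDn : Dd.Normal := by
    refine Subgroup.normalizer_eq_top_iff.1 (top_le_iff.1 (htop ▸ sup_le (sup_le ?_ ?_) ?_))
    · intro q hq
      have hqO := hQO hq
      refine hnd q (fun x hx => Subgroup.mem_sup_left ⟨(Subgroup.mem_normalizer_iff.1 (hON1 hqO) x).1 hx.1,
        hOn.conj_mem x hx.2 q⟩) fun x hx => Subgroup.mem_sup_right
        ⟨(Subgroup.mem_normalizer_iff.1 (hON2 hqO) x).1 hx.1, hOn.conj_mem x hx.2 q⟩
    · intro w hw
      refine hnd w (fun x hx => ?_) fun x hx => ?_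
      · rw [h.e1.comm w hw x hx.1, mul_inv_cancel_right]; exact Subgroup.mem_sup_left hx
      · rw [show w * x * w⁻¹ = (w * x * w⁻¹ * x⁻¹) * x by group]
        exact Dd.mul_mem (Subgroup.mem_sup_left (hcomm hON1 w hw x hx.2)) (Subgroup.mem_sup_right hx)
    · intro w hw
      refine hnd w (fun x hx => ?_) fun x hx => ?_
      · rw [show w * x * w⁻¹ = (w * x * w⁻¹ * x⁻¹) * x by group]
        exact Dd.mul_mem (Subgroup.mem_sup_right (hcomm hON2 w hw x hx.2)) (Subgroup.mem_sup_left hx)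
      · rw [h.e2.comm w hw x hx.1, mul_inv_cancel_right]; exact Subgroup.mem_sup_right hx
  set Z := Dd ⊓ Subgroup.centralizer (Dd : Set L)
  haveI : (Subgroup.centralizer (Dd : Set L)).Normal := Subgroup.normal_centralizer
  haveI hZn : Z.Normal := Subgroup.normal_inf_normal _ _
  have hB12 : ∀ x ∈ B1, ∀ y ∈ B2, x * y * x⁻¹ * y⁻¹ ∈ Z := by
    intro x hx y hy
    have k1 : x * y * x⁻¹ * y⁻¹ ∈ B1 := hcomm hON1 x hx.1 y hy.2
    have k2 : x * y * x⁻¹ * y⁻¹ ∈ B2 := by
      have := B2.inv_mem (hcomm hON2 y hy.1 x hx.2)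
      simpa [mul_assoc] using this
    refine ⟨Subgroup.mem_sup_left k1, ?_⟩
    rw [SetLike.mem_coe, hDd, centralizer_sup_eq]
    exact ⟨fun b hb => h.e1.comm b hb.1 _ k1.1, fun b hb => h.e2.comm b hb.1 _ k2.1⟩
  set π := QuotientGroup.mk' Z
  have hπ : ∀ z, π z = 1 ↔ z ∈ Z := fun z => QuotientGroup.eq_one_iff z
  set F := Dd.map π
  haveI hFn : F.Normal := Subgroup.Normal.map hDn π (QuotientGroup.mk'_surjective Z)
  have hmap : ∀ {B : Subgroup L}, PairRank.EA 2 B → PairRank.EA 2 (B.map π) := fun {B} hB => by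
    refine ⟨?_, ?_⟩
    · rintro _ ⟨a, ha, rfl⟩ _ ⟨b, hb, rfl⟩
      rw [← map_mul, ← map_mul, hB.comm a ha b hb]
    · rintro _ ⟨a, ha, rfl⟩
      rw [← map_pow, hB.pow a ha, map_one]
  have hF : PairRank.EA 2 F := by
    show PairRank.EA 2 (Dd.map π)
    rw [hDd, Subgroup.map_sup]
    refine ea_sup (hmap (h.e1.mono inf_le_left)) (hmap (h.e2.mono inf_le_left)) ?_
    rintro _ ⟨x, hx, rfl⟩ _ ⟨y, hy, rfl⟩
    have h1 := (hπ _).2 (hB12 x hx y hy)
    rwa [map_mul, map_mul, map_mul, map_inv, map_inv, mul_inv_eq_one, mul_inv_eq_iff_eq_mul] at h1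
  set N := (nOf F).comap π
  haveI hNn : N.Normal := Subgroup.Normal.comap inferInstance π
  have hconj : ∀ g : L, ∀ P : Subgroup L, IsPGroup 2 P → IsPGroup 2 (cj g P) := fun g P hP => hP.map _
  obtain ⟨S1, hS1⟩ : ∃ S1 : Sylow 2 L, (S1 : Subgroup L) = P1 := by
    obtain ⟨S1, hS1⟩ := hP1p.exists_le_sylow
    exact ⟨S1, h.max1 _ S1.2 hS1⟩
  obtain ⟨S2, hS2⟩ : ∃ S2 : Sylow 2 L, (S2 : Subgroup L) = P2 := by
    obtain ⟨S2, hS2⟩ := hP2p.exists_le_sylow
    exact ⟨S2, h.max2 _ S2.2 hS2⟩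
  obtain ⟨g, hg⟩ := MulAction.exists_smul_eq L S1 S2
  have hP21 : cj g P1 = P2 := by rw [← hS1, ← hS2, ← hg]; rfl
  by_cases hcase : W1 ⊓ N ≤ O
  · -- no kernel: count
    set w := O.relIndex W1
    have hw2 : O.relIndex W2 = w := by
      have key : ∀ W : Subgroup L, W ≤ Q ⊔ W → O ≤ Q ⊔ W → O.relIndex W = O.relIndex (Q ⊔ W) := by
        intro W _ hOW
        have e : Q ⊔ W = W ⊔ O := le_antisymm (sup_le (hQO.trans le_sup_right) le_sup_left) (sup_le le_sup_right hOW)
        rw [e, Subgroup.relIndex_sup_right]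
      show O.relIndex W2 = O.relIndex W1
      rw [key W2 le_sup_right hOP2, key W1 le_sup_right hOP1, ← hP1, ← hP2, ← hP21]
      conv_lhs => rw [← (Subgroup.Normal.map_conj_eq O g : cj g O = O)]
      exact relIndex_cj g O P1
    set a := (Subgroup.centralizer (B1 : Set L)).relIndex B2
    set b := (Subgroup.centralizer (B2 : Set L)).relIndex B1
    have hside : ∀ (W Wo : Subgroup L), PP W (Q ⊔ W) → O ≤ Q ⊔ W → PairRank.EA 2 Wo →
        (Subgroup.centralizer ((W ⊓ O : Subgroup L) : Set L)).relIndex (Wo ⊓ O) *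
          (Subgroup.centralizer ((W ⊓ O : Subgroup L) : Set L)).relIndex (Wo ⊓ O) ≤
          (Subgroup.centralizer ((Wo ⊓ O : Subgroup L) : Set L)).relIndex (W ⊓ O) * O.relIndex W := by
      intro W Wo hPP hOW hWo
      have h1 := hPP (Wo ⊓ O) (inf_le_right.trans hOW) (imEA_of_ea (hWo.mono inf_le_left))
      have h2 : (Subgroup.centralizer ((W ⊓ O : Subgroup L) : Set L)).relIndex (Wo ⊓ O) ≤
          (Subgroup.centralizer (W : Set L)).relIndex (Wo ⊓ O) :=
        Subgroup.relIndex_le_of_le_left (Subgroup.centralizer_le inf_le_left) Subgroup.index_ne_zero_of_finite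
      refine (Nat.mul_le_mul h2 h2).trans (h1.trans ?_)
      set C := Subgroup.centralizer ((Wo ⊓ O : Subgroup L) : Set L)
      calc C.relIndex W = (C ⊓ W).relIndex W := (Subgroup.inf_relIndex_right C W).symm
        _ ≤ (C ⊓ (W ⊓ O)).relIndex W :=
            Subgroup.relIndex_le_of_le_left (inf_le_inf_left _ inf_le_left) Subgroup.index_ne_zero_of_finite
        _ = C.relIndex (W ⊓ O) * O.relIndex W := by
            rw [← Subgroup.relIndex_mul_relIndex (C ⊓ (W ⊓ O)) (W ⊓ O) W inf_le_right inf_le_left,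
              Subgroup.inf_relIndex_right, inf_comm W O, Subgroup.inf_relIndex_right]
    have hab : a * a ≤ b * w := hside W1 W2 h.pp1 hOP1 h.e2
    have hba : b * b ≤ a * w := hw2 ▸ hside W2 W1 h.pp2 hOP2 h.e1
    -- the offence on `F`
    have hfree2 : ¬ Involves (Equiv.Perm (Fin 4)) (L ⧸ Z) := fun hi => hfree (ClassTwoSylow.involves_of_quotient hi)
    set A1 := W1.map π
    have hoff := off1 (K := L ⧸ Z) inferInstance hfree2 hF (imEA_of_ea (V := F) (hmap h.e1))
    have hwle : w ≤ (nOf F).relIndex A1 := by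
      rw [← Subgroup.relIndex_comap (nOf F) π W1, ← Subgroup.inf_relIndex_right N W1]
      show O.relIndex W1 ≤ _
      rw [← Subgroup.inf_relIndex_right O W1]
      exact Subgroup.relIndex_le_of_le_left
        (le_inf (fun x hx => hcase ⟨hx.2, hx.1⟩) inf_le_right) Subgroup.index_ne_zero_of_finite
    have hFle : Nat.card F ≤ a * Nat.card ↥(F ⊓ Subgroup.centralizer (A1 : Set (L ⧸ Z))) := by
      set E2 := Subgroup.centralizer (B1 : Set L) ⊓ B2
      have hE2 : E2 ≤ Z := fun x hx => ⟨Subgroup.mem_sup_right hx.2, by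
        rw [SetLike.mem_coe, hDd, centralizer_sup_eq]
        exact ⟨hx.1, fun y hy => h.e2.comm y hy.1 x hx.2.1⟩⟩
      have hker : π.ker.relIndex B2 ≤ a := by
        rw [QuotientGroup.ker_mk']
        show _ ≤ (Subgroup.centralizer (B1 : Set L)).relIndex B2
        rw [← Subgroup.inf_relIndex_right (Subgroup.centralizer (B1 : Set L)) B2]
        exact Subgroup.relIndex_le_of_le_left hE2 Subgroup.index_ne_zero_of_finite
      rw [Subgroup.relIndex_ker] at hker
      have hB1F : B1.map π ≤ F ⊓ Subgroup.centralizer (A1 : Set (L ⧸ Z)) := by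
        refine le_inf (Subgroup.map_mono le_sup_left) ?_
        rintro _ ⟨x, hx, rfl⟩ _ ⟨y, hy, rfl⟩
        rw [← map_mul, ← map_mul, h.e1.comm y hy x hx.1]
      have hsup : F = B2.map π ⊔ B1.map π := by rw [← Subgroup.map_sup, sup_comm]
      calc Nat.card F ≤ Nat.card ↥(B2.map π ⊔ B1.map π) * 1 := by rw [mul_one, ← hsup]
        _ ≤ Nat.card (B2.map π) * Nat.card (B1.map π) := by
            rw [mul_one]
            refine Nat.card_le_card_of_surjective
              (fun q : ↥(B2.map π) × ↥(B1.map π) => (⟨(q.1 : L ⧸ Z) * q.2,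
                mul_mem (Subgroup.mem_sup_left q.1.2) (Subgroup.mem_sup_right q.2.2)⟩ : ↥(B2.map π ⊔ B1.map π))) ?_
              |>.trans (le_of_eq (Nat.card_prod _ _))
            rintro ⟨x, hx⟩
            obtain ⟨u, hu, v, hv, rfl⟩ := mem_sup_of_le_normalizer (fun v hv => Subgroup.centralizer_le_normalizer _
              fun u hu => hF.comm u (hsup ▸ Subgroup.mem_sup_left hu) v (hsup ▸ Subgroup.mem_sup_right hv)) hx
            exact ⟨(⟨u, hu⟩, ⟨v, hv⟩), rfl⟩
        _ ≤ _ := Nat.mul_le_mul hker (Subgroup.card_le_of_le hB1F)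
    have hwa : w * w ≤ a := by
      have h3 := (Nat.mul_le_mul_right _ (Nat.mul_le_mul hwle hwle)).trans (hoff.trans hFle)
      exact Nat.le_of_mul_le_mul_right h3 Nat.card_pos
    have hapos : 0 < a := relIndex_pos' _ _
    have hwpos : 0 < w := relIndex_pos' _ _
    have haw : a ≤ w := by
      by_contra hlt
      push Not at hlt
      have h4 : a ^ 3 * a ≤ w ^ 3 * a := by nlinarith [Nat.mul_le_mul hab hab, Nat.mul_le_mul_left (w * w) hba]
      have h5 : a ^ 3 ≤ w ^ 3 := Nat.le_of_mul_le_mul_right h4 hapos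
      exact absurd h5 (not_le.2 (Nat.pow_lt_pow_left hlt (by norm_num)))
    have hw1 : w = 1 := by nlinarith
    have ha1 : a = 1 := by omega
    intro x hx y hy
    exact (Subgroup.relIndex_eq_one.1 ha1 hy) x hx
  · -- a kernel: pass to the normaliser of its Sylow subgroup
    obtain ⟨P, hP⟩ := PLocal.exists_sylow_inf S1 N
    have hfr := Sylow.normalizer_sup_eq_top P
    rw [hP, hS1] at hfr
    set PN := P1 ⊓ N with hPN
    set M := Subgroup.normalizer (PN : Set L)
    have hP1M : P1 ≤ M := by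
      intro s hs
      refine Local.mem_normalizer_of_map_conj_eq (Subgroup.eq_of_le_of_card_ge ?_
        (Subgroup.card_map_of_injective (MulAut.conj s).injective).ge)
      exact Local.map_conj_le fun x hx => ⟨P1.mul_mem (P1.mul_mem hs hx.1) (P1.inv_mem hs), hNn.conj_mem x hx.2 s⟩
    have hMne : M ≠ ⊤ := by
      intro e
      haveI := Subgroup.normalizer_eq_top_iff.1 e
      exact hcase fun x hx => le_pCore (hP1p.to_le inf_le_left) (show x ∈ PN from ⟨Subgroup.mem_sup_right hx.1, hx.2⟩)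
    set C := (Subgroup.centralizer (F : Set (L ⧸ Z))).comap π
    haveI hCn : C.Normal := Subgroup.Normal.comap inferInstance π
    have hCN : C ≤ N := fun x hx => centralizer_le_nOf F hx
    have hNC : N ≤ C ⊔ P1 := by
      set q := QuotientGroup.mk' C
      have hker : IsPGroup 2 (N.map q) := by
        rintro ⟨_, x, hx, rfl⟩
        obtain ⟨k, hk⟩ := pow_mem_of_mem_nOf (show π x ∈ nOf F from hx)
        refine ⟨k, Subtype.ext ((QuotientGroup.eq_one_iff _).2 ?_)⟩
        show π (x ^ 2 ^ k) ∈ Subgroup.centralizer (F : Set (L ⧸ Z))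
        rwa [map_pow]
      haveI : (N.map q).Normal := Subgroup.Normal.map hNn q (QuotientGroup.mk'_surjective C)
      intro x hx
      obtain ⟨s, hs, e⟩ := ((le_pCore hker).trans (pCore_le_sylow (S1.mapSurjective (QuotientGroup.mk'_surjective C))))
        (show q x ∈ N.map q from ⟨x, hx, rfl⟩)
      have hxs : x * s⁻¹ ∈ C := by
        rw [← QuotientGroup.eq_one_iff]
        show q (x * s⁻¹) = 1
        rw [map_mul, map_inv, e, mul_inv_cancel]
      simpa using (C ⊔ P1).mul_mem (Subgroup.mem_sup_left hxs) (Subgroup.mem_sup_right (hS1 ▸ hs : s ∈ P1))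
    have hCM : C ⊔ M = ⊤ := top_le_iff.1 (hfr ▸ sup_le le_sup_right (hNC.trans (sup_le_sup_left hP1M C)))
    obtain ⟨c, hc, m, hm, rfl⟩ := Subgroup.mem_sup_of_normal_left.1 (hCM.ge (Subgroup.mem_top g))
    set W3 := cj c⁻¹ W2
    have hcQ : cj c⁻¹ Q = Q := Subgroup.Normal.map_conj_eq Q c⁻¹
    have hsup3 : Q ⊔ W3 = cj c⁻¹ P2 := by
      show Q ⊔ W3 = cj c⁻¹ (Q ⊔ W2)
      rw [show cj c⁻¹ (Q ⊔ W2) = cj c⁻¹ Q ⊔ cj c⁻¹ W2 from Subgroup.map_sup _ _ _, hcQ]
    have h3 : Pair L Q W1 W3 := by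
      refine ⟨h.Qn, h.Q2, h.e1, ea_cj h.e2 _, h.n1, ?_, h.max1, ?_, h.pp1, hsup3 ▸ h.pp2.conj _⟩
      · intro q hq
        refine Subgroup.mem_normalizer_iff.2 fun x => ?_
        have hq' : c * q * c⁻¹ ∈ Q := h.Qn.conj_mem q hq c
        rw [mem_cj, mem_cj, Subgroup.mem_normalizer_iff.1 (h.n2 hq')]
        simp [mul_assoc]
      · intro P' hP' hle
        have h4 := h.max2 (cj c P') (hP'.map _) (by
          have := Subgroup.map_mono (f := (MulAut.conj c).toMonoidHom) hle
          rw [hsup3] at this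
          change cj c (cj c⁻¹ P2) ≤ _ at this
          rwa [cj_cj, mul_inv_cancel, cj_one] at this)
        rw [hsup3, hP2, ← h4, cj_cj, inv_mul_cancel, cj_one]
    have hW3M : W3 ≤ M := by
      refine le_sup_right.trans (hsup3.le.trans ?_)
      rw [← hP21, cj_cj, inv_mul_cancel_left]
      rintro _ ⟨x, hx, rfl⟩
      exact M.mul_mem (M.mul_mem hm (hP1M hx)) (M.inv_mem hm)
    have hres := hrec M hMne W3 h3 (le_sup_left.trans hP1M) (le_sup_right.trans hP1M) hW3M
    intro x hx y hy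
    have hy3 : c⁻¹ * y * c ∈ W3 ⊓ O := by
      refine ⟨?_, ?_⟩
      · have h6 := conj_mem_cj (g := c⁻¹) hy.1
        rwa [inv_inv] at h6
      · simpa using hOn.conj_mem y hy.2 c⁻¹
    have h5 := hres x hx _ hy3
    set z := y⁻¹ * (c⁻¹ * y * c) with hz
    have hzZ : z ∈ Z := by
      rw [← hπ, hz, map_mul, map_mul, map_mul, map_inv, map_inv]
      have hyc : π y * π c = π c * π y := hc (π y) ⟨y, Subgroup.mem_sup_right hy, rfl⟩
      rw [mul_assoc (π c)⁻¹, hyc, inv_mul_cancel_left, inv_mul_cancel]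
    have hzx : x * z = z * x := hzZ.2 x (Subgroup.mem_sup_left hx)
    calc x * y = x * ((c⁻¹ * y * c) * z⁻¹) := by rw [hz]; group
      _ = (c⁻¹ * y * c) * (x * z⁻¹) := by rw [← mul_assoc, h5, mul_assoc]
      _ = (c⁻¹ * y * c) * z⁻¹ * x := by
          rw [(show Commute x z⁻¹ from Commute.inv_right hzx).eq]; group
      _ = y * x := by rw [hz]; group

variable {S : Sylow 2 K} {W A : Subgroup K}

/-- The case `W` outside `O₂`. -/
theorem case_out (h : Setting S W A) (hWQ : ¬ W ≤ pCore 2 K) : False := by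
  haveI : Fact (Nat.Prime 2) := ⟨Nat.prime_two⟩
  haveI := h.sol
  set Q := pCore 2 K with hQdef
  have hQS : Q ≤ (S : Subgroup K) := pCore_le_sylow S
  have hQn : Q.Normal := inferInstance
  have hQ2 : IsPGroup 2 Q := isPGroup_pCore 2
  obtain ⟨R, hRodd, hRc, hDn, hRS⟩ := h.exists_odd
  set D := Q ⊔ R with hD
  haveI := hDn
  have hDS : D ⊔ (S : Subgroup K) = ⊤ := top_le_iff.1 (hRS ▸ sup_le_sup_right le_sup_right _)
  set L0 := D ⊔ W with hL0
  have hconjL : ∀ g : K, cj g W ≤ L0 ∧ W ≤ D ⊔ cj g W := by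
    intro g
    obtain ⟨d, hd, s, hs, rfl⟩ := Subgroup.mem_sup_of_normal_left.1 (hDS.ge (Subgroup.mem_top g))
    have e : cj (d * s) W = cj d W := by
      rw [← cj_cj, show cj s W = W from Local.map_conj_eq_of_mem_normalizer (h.hSW hs)]
    rw [e]
    refine ⟨?_, fun x hx => ?_⟩
    · rintro _ ⟨x, hx, rfl⟩
      exact L0.mul_mem (L0.mul_mem (Subgroup.mem_sup_left hd) (Subgroup.mem_sup_right hx))
        (L0.inv_mem (Subgroup.mem_sup_left hd))
    · rw [show x = d⁻¹ * (d * x * d⁻¹) * d by group]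
      exact (D ⊔ cj d W).mul_mem ((D ⊔ cj d W).mul_mem (Subgroup.mem_sup_left (D.inv_mem hd))
        (Subgroup.mem_sup_right (conj_mem_cj hx))) (Subgroup.mem_sup_left hd)
  have hWgS : ∀ g : K, cj g W ≤ cj g (S : Subgroup K) := fun g => Subgroup.map_mono h.hWS
  have hQSg : ∀ g : K, Q ≤ cj g (S : Subgroup K) := fun g x hx =>
    mem_cj.2 (hQS (by simpa using hQn.conj_mem x hx g⁻¹))
  have hQn' : ∀ g : K, Q ≤ Subgroup.normalizer (cj g W : Set K) := by
    intro g q hq
    have hq' : g⁻¹ * q * g ∈ (S : Subgroup K) := hQS (by simpa using hQn.conj_mem q hq g⁻¹)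
    refine Subgroup.mem_normalizer_iff.2 fun x => ?_
    rw [mem_cj, mem_cj, Subgroup.mem_normalizer_iff.1 (h.hSW hq')]
    simp [mul_assoc]
  have hmax : ∀ g : K, ∀ P : Subgroup L0, IsPGroup 2 P →
      (Q ⊔ cj g W).subgroupOf L0 ≤ P → P = (Q ⊔ cj g W).subgroupOf L0 := by
    intro g P hP hle
    refine le_antisymm (fun x hx => ?_) hle
    have hx0 : (x : K) ∈ D ⊔ cj g W := sup_le le_sup_left (hconjL g).2 x.2
    obtain ⟨d, hd, w, hw, e⟩ := Subgroup.mem_sup_of_normal_left.1 hx0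
    obtain ⟨q, hq, r, hr, rfl⟩ := Subgroup.mem_sup_of_normal_left.1 hd
    have hrK : r ∈ P.map L0.subtype := by
      have h1 : ∀ y ∈ Q ⊔ cj g W, y ∈ P.map L0.subtype := fun y hy =>
        ⟨⟨y, sup_le (le_sup_left.trans le_sup_left) (hconjL g).1 hy⟩, hle hy, rfl⟩
      have : r = q⁻¹ * (x : K) * w⁻¹ := by rw [← e]; group
      rw [this]
      exact (P.map L0.subtype).mul_mem ((P.map L0.subtype).mul_mem ((P.map L0.subtype).inv_mem (h1 q (Subgroup.mem_sup_left hq)))
        ⟨x, hx, rfl⟩) ((P.map L0.subtype).inv_mem (h1 w (Subgroup.mem_sup_right hw)))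
    have hr1 : r = 1 := PairRank.eq_one_of_coprime (hP.map L0.subtype) hrK (Nat.coprime_two_right.2 (hRodd r hr))
    show (x : K) ∈ Q ⊔ cj g W
    rw [← e, hr1, mul_one]
    exact Subgroup.mul_mem _ (Subgroup.mem_sup_left hq) (Subgroup.mem_sup_right hw)
  set B := W ⊓ Q with hB
  have hBcomm : ∀ i j : K, ∀ x ∈ cj i B, ∀ y ∈ cj j B, x * y = y * x := by
    intro i j x hx y hy
    have hQL : Q ≤ L0 := le_sup_left.trans le_sup_left
    have hp : Pair L0 (Q.subgroupOf L0) ((cj i W).subgroupOf L0) ((cj j W).subgroupOf L0) := by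
      have hea : ∀ g : K, PairRank.EA 2 ((cj g W).subgroupOf L0) := fun g =>
        ⟨fun x hx y hy => Subtype.ext ((ea_cj h.hW g).comm _ hx _ hy), fun x hx => Subtype.ext (by
          rw [SubmonoidClass.coe_pow]; exact (ea_cj h.hW g).pow _ hx)⟩
      have hn : ∀ g : K, Q.subgroupOf L0 ≤ Subgroup.normalizer ((cj g W).subgroupOf L0 : Set L0) := fun g x hx =>
        Subgroup.mem_normalizer_iff.2 fun y => (Subgroup.mem_normalizer_iff.1 (hQn' g hx) (y : K))
      have e : ∀ g : K, Q.subgroupOf L0 ⊔ (cj g W).subgroupOf L0 = (Q ⊔ cj g W).subgroupOf L0 := fun g =>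
        (Subgroup.subgroupOf_sup hQL (hconjL g).1).symm
      refine ⟨inferInstance, hQ2.comap_of_injective L0.subtype L0.subtype_injective, hea i, hea j, hn i, hn j,
        ?_, ?_, ?_, ?_⟩
      · rw [e i]; exact hmax i
      · rw [e j]; exact hmax j
      · rw [e i]; exact ((h.pp.conj i).mono (sup_le (hQSg i) (hWgS i))).restrict (hconjL i).1
      · rw [e j]; exact ((h.pp.conj j).mono (sup_le (hQSg j) (hWgS j))).restrict (hconjL j).1
    have hfree0 : ¬ Involves (Equiv.Perm (Fin 4)) L0 := fun hi => h.free (ThompsonComplement.involves_of_subgroup hi)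
    have hcore : Q.subgroupOf L0 ≤ pCore 2 L0 :=
      le_pCore (hQ2.comap_of_injective L0.subtype L0.subtype_injective)
    have hmem : ∀ {g : K} {z : K}, z ∈ cj g B → z ∈ cj g W ∧ z ∈ Q := by
      rintro g _ ⟨z, hz, rfl⟩
      exact ⟨⟨z, hz.1, rfl⟩, hQn.conj_mem z hz.2 g⟩
    obtain ⟨hx1, hx2⟩ := hmem hx
    obtain ⟨hy1, hy2⟩ := hmem hy
    exact congrArg Subtype.val (cores_commute _ L0 rfl inferInstance hfree0 _ _ _ hp
      ⟨x, hQL hx2⟩ ⟨hx1, hcore hx2⟩ ⟨y, hQL hy2⟩ ⟨hy1, hcore hy2⟩)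
  set V := conjSup B with hVdef
  haveI hVn : V.Normal := conjSup_normal B
  have hV : PairRank.EA 2 V := by
    letI := Fintype.ofFinite K
    exact ea_sup_finset _ _ (fun g _ => ea_cj (h.hW.mono inf_le_left) g) fun i _ j _ => hBcomm i j
  have hVQ : V ≤ Q := conjSup_le_normal inf_le_right
  set π := QuotientGroup.mk' V
  haveI : (Q.map π).Normal := Subgroup.Normal.map hQn π (QuotientGroup.mk'_surjective V)
  set C := (Subgroup.centralizer ((Q.map π : Subgroup (K ⧸ V)) : Set (K ⧸ V))).comap π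
  haveI : C.Normal := Subgroup.Normal.comap inferInstance π
  have hCS : C ⊔ (S : Subgroup K) = ⊤ := by
    by_contra hne
    refine hWQ fun w hw => h.inf_le_pCore hne ⟨h.hWS hw, ?_⟩
    rintro _ ⟨q, hq, rfl⟩
    have h1 : q * w * q⁻¹ * w⁻¹ ∈ B :=
      ⟨W.mul_mem ((Subgroup.mem_normalizer_iff.1 (h.hSW (hQS hq)) w).1 hw) (W.inv_mem hw), by
        rw [show q * w * q⁻¹ * w⁻¹ = q * (w * q⁻¹ * w⁻¹) by group]
        exact Q.mul_mem hq (hQn.conj_mem _ (Q.inv_mem hq) w)⟩
    have h2 : π (q * w * q⁻¹ * w⁻¹) = 1 := (QuotientGroup.eq_one_iff _).2 (le_conjSup B h1)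
    rwa [map_mul, map_mul, map_mul, map_inv, map_inv, mul_inv_eq_one, mul_inv_eq_iff_eq_mul] at h2
  have hQR : ∀ q ∈ Q, ∀ r ∈ R, q * r * q⁻¹ * r⁻¹ ∈ V := by
    intro q hq r hr
    have h1 : π q * π r = π r * π q := (mem_of_sup_eq_top hCS (hRodd r hr) : r ∈ C) _ ⟨q, hq, rfl⟩
    rw [← QuotientGroup.eq_one_iff]
    show π _ = 1
    rw [map_mul, map_mul, map_mul, map_inv, map_inv, h1, mul_inv_cancel_right, mul_inv_cancel]
  have hRV : ¬ R ≤ Subgroup.centralizer (V : Set K) := by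
    intro hle
    have hRQ : R ≤ Subgroup.centralizer (Q : Set K) := by
      intro r hr q hq
      have hf : r * q * r⁻¹ * q⁻¹ ∈ V := by
        have := V.inv_mem (hQR q hq r hr)
        simpa [mul_assoc] using this
      exact (fix_of_odd (hRodd r hr) (by rw [← sq]; exact hV.pow _ hf) ((hle hr) _ hf).symm).symm
    have hR1 : ∀ r ∈ R, r = 1 := fun r hr =>
      PairRank.eq_one_of_coprime hQ2 (h.char (hRQ hr)) (Nat.coprime_two_right.2 (hRodd r hr))
    refine h.notNormal (normal_of_sup hRS (fun r hr => ?_) h.hSW)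
    rw [hR1 r hr]; exact one_mem _
  set U := ⁅V, R⁆ with hU
  have hUV : U ≤ V := commutator_le_of_le_normalizer (by rw [Subgroup.normalizer_eq_top]; exact le_top)
  haveI hUn : U.Normal := by
    refine Subgroup.normalizer_eq_top_iff.1 (top_le_iff.1 fun g _ => ?_)
    have hnorm : ∀ k : K, (∀ r ∈ R, k * r * k⁻¹ ∈ R) → k ∈ Subgroup.normalizer (U : Set K) := by
      intro k hk
      refine Local.mem_normalizer_of_map_conj_eq (Subgroup.eq_of_le_of_card_ge ?_
        (Subgroup.card_map_of_injective (MulAut.conj k).injective).ge)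
      rw [hU, Subgroup.map_commutator]
      exact Subgroup.commutator_mono (Local.map_conj_le fun x hx => hVn.conj_mem x hx k) (Local.map_conj_le hk)
    obtain ⟨i, hi⟩ := IsPGroup.iff_card.1 hQ2
    obtain ⟨q, hq, hgq⟩ := coprime_key_normalize (A := R) (W := Q) (k := g) (by rw [hi]; exact hRc.pow_right i)
      (Or.inl inferInstance) (by rw [Subgroup.normalizer_eq_top]; exact le_top)
      fun r hr => by simpa using hDn.conj_mem r (Subgroup.mem_sup_right hr) g⁻¹
    obtain ⟨j, hj⟩ := hV.exists_card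
    obtain ⟨v, hv, hqv⟩ := coprime_key_normalize (A := R) (W := V) (k := q⁻¹) (by rw [hj]; exact hRc.pow_right j)
      (Or.inl inferInstance) (by rw [Subgroup.normalizer_eq_top]; exact le_top)
      fun r hr => by
        have := (V ⊔ R).mul_mem (Subgroup.mem_sup_left (hQR q hq r hr)) (Subgroup.mem_sup_right hr)
        simpa using this
    have hvU : v ∈ Subgroup.normalizer (U : Set K) := Subgroup.centralizer_le_normalizer _
      fun u hu => hV.comm u (hUV hu) v hv
    rw [show g = (g * q) * (q⁻¹ * v) * v⁻¹ by group]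
    exact Subgroup.mul_mem _ (Subgroup.mul_mem _ (hnorm _ hgq) (hnorm _ hqv)) (Subgroup.inv_mem _ hvU)
  have hUne : U ≠ ⊥ := fun e => hRV fun r hr v hv => by
    have h1 : ⁅v, r⁆ ∈ U := Subgroup.commutator_mem_commutator hv hr
    rw [e, Subgroup.mem_bot, commutatorElement_eq_one_iff_mul_comm] at h1
    exact h1
  obtain ⟨u, hu, hu1, huS⟩ := AbelianTrace.exists_fixed ((hV.mono hUV).isPGroup) S.2
    (by rw [Subgroup.normalizer_eq_top]; exact le_top) hUne
  have huC : u ∈ Subgroup.center K := h.cen u (hQS (hVQ (hUV hu))) (hV.pow u (hUV hu)) huS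
  haveI : IsMulCommutative V := ⟨⟨fun a b => Subtype.ext (hV.comm a a.2 b b.2)⟩⟩
  letI := Fintype.ofFinite R
  let τ : V →* V := MonoidHom.mk' (fun v => ∏ r : R, MulAut.conjNormal (r : K) v) fun v v' => by
    simp only [map_mul, Finset.prod_mul_distrib]
  have hτ : ∀ r : R, ∀ v : V, τ (MulAut.conjNormal (r : K) v) = τ v := by
    intro r v
    show ∏ s : R, MulAut.conjNormal (s : K) (MulAut.conjNormal (r : K) v) = ∏ s : R, MulAut.conjNormal (s : K) v
    refine Fintype.prod_equiv (Equiv.mulRight r) _ _ fun s => ?_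
    show _ = MulAut.conjNormal ((s * r : R) : K) v
    rw [Subgroup.coe_mul, map_mul, MulAut.mul_apply]
  have hker : U ≤ τ.ker.map V.subtype := Subgroup.commutator_le.2 fun v hv r hr => by
    refine ⟨⟨v, hv⟩ * MulAut.conjNormal r (⟨v, hv⟩ : V)⁻¹, ?_, ?_⟩
    · rw [SetLike.mem_coe, MonoidHom.mem_ker, map_mul]
      rw [show τ (MulAut.conjNormal r (⟨v, hv⟩ : V)⁻¹) = τ (⟨v, hv⟩ : V)⁻¹ from hτ ⟨r, hr⟩ _, map_inv,
        mul_inv_cancel]
    · show v * (r * v⁻¹ * r⁻¹) = ⁅v, r⁆
      rw [commutatorElement_def]; group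
  obtain ⟨u', hu', rfl⟩ := hker hu
  have h2 : τ u' = u' ^ Nat.card R := by
    show ∏ r : R, MulAut.conjNormal (r : K) u' = _
    rw [Finset.prod_congr rfl (g := fun _ => u') fun r _ => Subtype.ext (by
      rw [MulAut.conjNormal_apply]
      have hc := Subgroup.mem_center_iff.1 huC (r : K)
      change (r : K) * (u' : K) = (u' : K) * r at hc
      rw [hc, mul_inv_cancel_right]), Finset.prod_const, Finset.card_univ, Nat.card_eq_fintype_card]
  have h3 : τ u' = 1 := hu'
  rw [h3] at h2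
  refine hu1 ?_
  show ((u' : V) : K) = 1
  rw [eq_one_of_sq_of_odd (n := Nat.card R) (Subtype.ext (by
    rw [Subgroup.coe_mul, Subgroup.coe_one, ← sq]; exact hV.pow _ u'.2)) (Nat.coprime_two_right.1 hRc) h2.symm,
    Subgroup.coe_one]

/-- The minimal configuration does not exist. -/
theorem Setting.false (h : Setting S W A) : False := by
  by_cases hWQ : W ≤ pCore 2 K
  · exact case_in h hWQ
  · exact case_out h hWQ

end CfsgLib.StrongEmbedS4
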