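import Cfsg.Agent.Lib.StrongEmbedS4.Prelim

/-!
The minimal configuration: consequences of "all proper overgroups of the Sylow subgroup normalise `W`".
-/

set_option autoImplicit false

namespace CfsgLib.StrongEmbedS4

open CfsgLib Cfsg

universe u

variable {K : Type u} [Group K] [Finite K]

/-- The minimal configuration. -/
structure Setting (S : Sylow 2 K) (W A : Subgroup K) : Prop where
  sol : Group.IsSolvable K
  free : ¬ Involves (Equiv.Perm (Fin 4)) K
  char : Subgroup.centralizer (pCore 2 K : Set K) ≤ pCore 2 K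
  cen : ∀ z ∈ (S : Subgroup K), z ^ 2 = 1 → (∀ s ∈ (S : Subgroup K), s * z = z * s) → z ∈ Subgroup.center K
  hWS : W ≤ S
  hW : PairRank.EA 2 W
  hSW : (S : Subgroup K) ≤ Subgroup.normalizer (W : Set K)
  pp : PP W S
  overgroups : ∀ L : Subgroup K, (S : Subgroup K) ≤ L → L ≠ ⊤ → L ≤ Subgroup.normalizer (W : Set K)
  notNormal : ¬ W.Normal
  hA : PairRank.EA 2 A
  hAS : A ≤ S
  hAQ : ¬ A ≤ pCore 2 K
  hmax : ∀ B : Subgroup K, B ≤ S → PairRank.EA 2 B → Nat.card B ≤ Nat.card A

variable {S : Sylow 2 K} {W A : Subgroup K}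

theorem Setting.not_sup_le (h : Setting S W A) {L : Subgroup K} (hL : L ≤ Subgroup.normalizer (W : Set K)) :
    L ⊔ (S : Subgroup K) ≠ ⊤ := fun e =>
  h.notNormal (Subgroup.normalizer_eq_top_iff.1 (top_le_iff.1 (e ▸ sup_le hL h.hSW)))

/-- A small normal subgroup meets `S` in the 2-core. -/
theorem Setting.inf_le_pCore (h : Setting S W A) {N : Subgroup K} [hN : N.Normal]
    (hNS : N ⊔ (S : Subgroup K) ≠ ⊤) : (S : Subgroup K) ⊓ N ≤ pCore 2 K := by
  haveI : Fact (Nat.Prime 2) := ⟨Nat.prime_two⟩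
  obtain ⟨P, hP⟩ := PLocal.exists_sylow_inf S N
  have hfr := Sylow.normalizer_sup_eq_top P
  rw [hP] at hfr
  set T := (S : Subgroup K) ⊓ N with hT
  by_cases hn : Subgroup.normalizer (T : Set K) = ⊤
  · haveI := Subgroup.normalizer_eq_top_iff.1 hn
    exact le_pCore (S.2.to_le inf_le_left)
  · exfalso
    have hST : (S : Subgroup K) ≤ Subgroup.normalizer (T : Set K) := by
      intro s hs
      refine Local.mem_normalizer_of_map_conj_eq (Subgroup.eq_of_le_of_card_ge ?_
        (Subgroup.card_map_of_injective (MulAut.conj s).injective).ge)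
      exact Local.map_conj_le fun x hx => ⟨(S : Subgroup K).mul_mem ((S : Subgroup K).mul_mem hs hx.1) ((S : Subgroup K).inv_mem hs),
        hN.conj_mem x hx.2 s⟩
    have h1 := h.overgroups _ hST hn
    have h2 := h.overgroups _ le_sup_right hNS
    exact h.notNormal (Subgroup.normalizer_eq_top_iff.1 (top_le_iff.1 (hfr ▸ sup_le h1 (le_sup_left.trans h2))))

/-- A normal subgroup supplemented by a Sylow 2-subgroup contains all elements of odd order. -/
theorem mem_of_sup_eq_top {S : Sylow 2 K} {N : Subgroup K} [N.Normal] (h : N ⊔ (S : Subgroup K) = ⊤) {x : K}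
    (hx : Odd (orderOf x)) : x ∈ N := by
  have hS : IsPGroup 2 ((S : Subgroup K).map (QuotientGroup.mk' N)) := S.2.map _
  have htop : (S : Subgroup K).map (QuotientGroup.mk' N) = ⊤ := by
    have h1 := congrArg (Subgroup.map (QuotientGroup.mk' N)) h
    rw [Subgroup.map_top_of_surjective _ (QuotientGroup.mk'_surjective N), Subgroup.map_sup] at h1
    have h2 : N.map (QuotientGroup.mk' N) = ⊥ :=
      (Subgroup.map_eq_bot_iff N).2 (by rw [QuotientGroup.ker_mk'])
    rwa [h2, bot_sup_eq] at h1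
  obtain ⟨k, hk⟩ := hS ⟨QuotientGroup.mk' N x, htop.symm ▸ Subgroup.mem_top _⟩
  have hk' : QuotientGroup.mk' N x ^ 2 ^ k = 1 := congrArg Subtype.val hk
  rw [← QuotientGroup.eq_one_iff, ← orderOf_eq_one_iff]
  exact Nat.eq_one_of_dvd_coprimes ((Nat.coprime_two_right.2 hx).pow_right k) (orderOf_map_dvd (QuotientGroup.mk' N) x)
    (orderOf_dvd_of_pow_eq_one hk')

/-- The odd complement in `O_{2,2'}`. -/
theorem Setting.exists_odd (h : Setting S W A) : ∃ R : Subgroup K,
    (∀ r ∈ R, Odd (orderOf r)) ∧ (Nat.card R).Coprime 2 ∧ (pCore 2 K ⊔ R).Normal ∧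
      R ⊔ (S : Subgroup K) = ⊤ := by
  haveI : Fact (Nat.Prime 2) := ⟨Nat.prime_two⟩
  haveI := h.sol
  set Q := pCore 2 K with hQ
  have hQS : Q ≤ (S : Subgroup K) := pCore_le_sylow S
  set π := QuotientGroup.mk' Q
  set O := pPrimeCore 2 (K ⧸ Q) with hO
  set D := O.comap π
  haveI : D.Normal := Subgroup.Normal.comap inferInstance π
  have hQD : Q ≤ D := by
    intro x hx
    show π x ∈ O
    rw [show π x = 1 from (QuotientGroup.eq_one_iff x).2 hx]
    exact one_mem _
  have hOc : (Nat.card O).Coprime 2 := card_pPrimeCore_coprime 2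
  have hidx : Q.relIndex D = Nat.card O := by
    have h1 := Subgroup.relIndex_ker π (K := D)
    rw [QuotientGroup.ker_mk'] at h1
    rw [h1, Subgroup.map_comap_eq_self_of_surjective (QuotientGroup.mk'_surjective Q)]
  have hDS : D ⊔ (S : Subgroup K) = ⊤ := by
    by_contra hne
    set T := S.mapSurjective (QuotientGroup.mk'_surjective Q)
    set ρ := QuotientGroup.mk' O
    set E := (pCore 2 ((K ⧸ Q) ⧸ O)).comap ρ
    haveI : E.Normal := Subgroup.Normal.comap inferInstance ρ
    set E' := E.comap π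
    haveI : E'.Normal := Subgroup.Normal.comap inferInstance π
    have hET : ∀ e ∈ E, ∃ o ∈ O, ∃ t ∈ (T : Subgroup (K ⧸ Q)), o * t = e := by
      intro e he
      obtain ⟨t, ht, hte⟩ := pCore_le_sylow (T.mapSurjective (QuotientGroup.mk'_surjective O)) he
      refine ⟨e * t⁻¹, ?_, t, ht, by group⟩
      rw [← QuotientGroup.eq_one_iff]
      show ρ (e * t⁻¹) = 1
      rw [map_mul, map_inv, hte, mul_inv_cancel]
    have hE'D : E' ≤ D ⊔ (S : Subgroup K) := by
      intro x hx
      obtain ⟨o, ho, t, ht, e⟩ := hET (π x) hx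
      obtain ⟨s, hs, rfl⟩ := ht
      have hd : x * s⁻¹ ∈ D := by
        show π (x * s⁻¹) ∈ O
        rw [map_mul, map_inv, ← e, mul_inv_cancel_right]
        exact ho
      simpa using Subgroup.mul_mem _ (Subgroup.mem_sup_left hd) (Subgroup.mem_sup_right hs : s ∈ D ⊔ (S : Subgroup K))
    have hE'S : E' ⊔ (S : Subgroup K) ≠ ⊤ := fun e => hne (top_le_iff.1 (e ▸ sup_le hE'D le_sup_right))
    have hint := h.inf_le_pCore hE'S
    have hEO : E ≤ O := by
      intro e he
      obtain ⟨o, ho, t, ht, rfl⟩ := hET e he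
      have hoE : o ∈ E := by
        show ρ o ∈ pCore 2 _
        rw [show ρ o = 1 from (QuotientGroup.eq_one_iff o).2 ho]
        exact one_mem _
      have htE : t ∈ E := by simpa using E.mul_mem (E.inv_mem hoE) he
      obtain ⟨s, hs, rfl⟩ := ht
      rw [show (π : K →* K ⧸ Q) s = 1 from (QuotientGroup.eq_one_iff s).2 (hint ⟨hs, htE⟩), mul_one]
      exact ho
    have hY : pCore 2 ((K ⧸ Q) ⧸ O) = ⊥ := by
      rw [← Subgroup.map_comap_eq_self_of_surjective (QuotientGroup.mk'_surjective O) (pCore 2 _),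
        Subgroup.map_eq_bot_iff, QuotientGroup.ker_mk']
      exact hEO
    have hC := Offender.centralizer_pPrimeCore_le (p := 2)
      (PLocal.isPSolvable_of_isSolvable _ ((K ⧸ Q) ⧸ O) rfl inferInstance) hY
    rw [pPrimeCore_quotient_eq_bot 2, centralizer_eq_top_of_bot] at hC
    refine hne (top_le_iff.1 fun x _ => Subgroup.mem_sup_left ?_)
    show π x ∈ O
    exact (QuotientGroup.eq_one_iff _).1 (Subgroup.mem_bot.1 (hC (Subgroup.mem_top (ρ (π x)))))
  obtain ⟨k, hk⟩ := IsPGroup.iff_card.1 (isPGroup_pCore (G := K) 2)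
  haveI : (Q.subgroupOf D).Normal := Subgroup.Normal.subgroupOf inferInstance D
  obtain ⟨R', hR'⟩ := Subgroup.exists_right_complement'_of_coprime (N := Q.subgroupOf D) (by
    rw [Nat.card_congr (Subgroup.subgroupOfEquivOfLe hQD).toEquiv, hk]
    show (2 ^ k).Coprime (Q.relIndex D)
    rw [hidx]
    exact hOc.symm.pow_left k)
  have hRc : (Nat.card (R'.map D.subtype)).Coprime 2 := by
    rw [Subgroup.card_map_of_injective D.subtype_injective, ← hR'.symm.index_eq_card]
    show (Q.relIndex D).Coprime 2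
    rw [hidx]; exact hOc
  have hsup : Q ⊔ R'.map D.subtype = D := by
    have h1 := congrArg (Subgroup.map D.subtype) hR'.sup_eq_top
    rwa [Subgroup.map_sup, Subgroup.map_subgroupOf_eq_of_le hQD, ← MonoidHom.range_eq_map, Subgroup.range_subtype] at h1
  refine ⟨R'.map D.subtype, fun r hr => odd_orderOf_of_mem hRc hr, hRc, by rw [hsup]; infer_instance, ?_⟩
  rw [← hsup, sup_comm Q, sup_assoc, sup_eq_right.2 hQS] at hDS
  exact hDS

/-- A subgroup normalised by `R` and `S` is normal. -/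
theorem normal_of_sup {R : Subgroup K} (hRS : R ⊔ (S : Subgroup K) = ⊤) {X : Subgroup K}
    (hR : R ≤ Subgroup.normalizer (X : Set K)) (hS : (S : Subgroup K) ≤ Subgroup.normalizer (X : Set K)) :
    X.Normal :=
  Subgroup.normalizer_eq_top_iff.1 (top_le_iff.1 (hRS ▸ sup_le hR hS))

end CfsgLib.StrongEmbedS4
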