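import Cfsg.Agent.Lib.OffenderTwo
import Cfsg.Agent.Lib.PairRank.Basic
import Cfsg.Agent.Lib.PLocal.Offender.Dual
import Cfsg.Agent.Lib.PLocal.SolvableSeparable
import Cfsg.Agent.Lib.S4Criterion

/-!
Elementary abelian 2-groups acting on elementary abelian 2-groups, in solvable groups without
normal 2-subgroup and without an element of order three inverted by an involution.
-/

set_option autoImplicit false

namespace CfsgLib.StrongEmbedS4

open CfsgLib Cfsg OffenderTwo

universe u v

variable {X : Type u} [Group X] {V : Type v} [CommGroup V]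

theorem eq_one_of_sq_of_odd {M : Type*} [Group M] {f : M} {n : ℕ} (hf : f * f = 1) (hn : Odd n)
    (h : f ^ n = 1) : f = 1 := by
  obtain ⟨m, rfl⟩ := hn
  rwa [pow_succ, pow_mul, sq, hf, one_pow, one_mul] at h

/-- An element of odd order moving a vector by a fixed vector fixes it. -/
theorem fixed_of_step {φ : X →* MulAut V} (htwo : ∀ v : V, v * v = 1) {r : X}
    (hodd : Odd (orderOf r)) {v : V} (h : φ r (φ r v / v) = φ r v / v) : φ r v = v := by
  have hp : ∀ n : ℕ, φ (r ^ n) v = (φ r v / v) ^ n * v := by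
    intro n
    induction n with
    | zero => simp
    | succ n ih =>
      rw [pow_succ', map_mul, MulAut.mul_apply, ih, map_mul, map_pow, h, pow_succ, mul_assoc, div_mul_cancel]
  have h1 := hp (orderOf r)
  rw [pow_orderOf_eq_one, map_one, MulAut.one_apply, eq_comm, mul_eq_right] at h1
  exact div_eq_one.1 (eq_one_of_sq_of_odd (htwo _) hodd h1)

/-- The stabiliser of a vector. -/
def stab (φ : X →* MulAut V) (v : V) : Subgroup X where
  carrier := {a | φ a v = v}
  one_mem' := by simp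
  mul_mem' := fun {a b} (ha : φ a v = v) (hb : φ b v = v) => by
    show φ (a * b) v = v
    rw [map_mul, MulAut.mul_apply, hb, ha]
  inv_mem' := fun {a} (ha : φ a v = v) => by
    show φ a⁻¹ v = v
    conv_lhs => rw [← ha]
    rw [map_inv, MulAut.inv_apply_self]

theorem mem_fix_iff {φ : X →* MulAut V} {A : Subgroup X} {v : V} : v ∈ fix φ A ↔ A ≤ stab φ v :=
  Iff.rfl

theorem apply_comm {φ : X →* MulAut V} {a b : X} (h : a * b = b * a) (v : V) :
    φ a (φ b v) = φ b (φ a v) := by
  rw [← MulAut.mul_apply, ← map_mul, h, map_mul, MulAut.mul_apply]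

theorem fixed_of_sq {φ : X →* MulAut V} {r : X} (hodd : Odd (orderOf r)) {v : V}
    (h : φ (r ^ 2) v = v) : φ r v = v := by
  obtain ⟨m, hm⟩ := hodd
  have e : r = (r ^ 2) ^ (m + 1) := by
    rw [← pow_mul, show 2 * (m + 1) = orderOf r + 1 by omega, pow_succ, pow_orderOf_eq_one, one_mul]
  show r ∈ stab φ v
  rw [e]
  exact Subgroup.pow_mem _ h _

variable [Finite X]

theorem faithful {φ : X →* MulAut V} (htwo : ∀ v : V, v * v = 1) {H : Subgroup X}
    (hH : PairRank.EA 2 H) {r : X} (hodd : Odd (orderOf r)) (hc : ∀ h ∈ H, h * r = r * h)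
    (hfix : ∀ v ∈ fix φ H, φ r v = v) (v : V) : φ r v = v := by
  induction hn : Nat.card H using Nat.strong_induction_on generalizing H v with
  | _ n ih =>
  rcases eq_or_ne H ⊥ with rfl | hne
  · exact hfix v fun a ha => by rw [Subgroup.mem_bot.1 ha, map_one, MulAut.one_apply]
  obtain ⟨K, hK⟩ := (Set.toFinite {K : Subgroup X | K < H}).exists_maximal ⟨⊥, bot_lt_iff_ne_bot.2 hne⟩
  have hKH : K < H := hK.prop
  obtain ⟨h, hhH, hhK⟩ := SetLike.exists_of_lt hKH
  have hsup : K ⊔ Subgroup.zpowers h = H := by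
    refine eq_of_le_of_not_lt (sup_le hKH.le (Subgroup.zpowers_le.2 hhH)) fun hlt => hhK ?_
    exact hK.le_of_ge hlt le_sup_left (Subgroup.mem_sup_right (Subgroup.mem_zpowers h))
  refine ih _ ?_ (hH.mono hKH.le) (fun x hx => hc x (hKH.le hx)) (fun w hw => ?_) v rfl
  · rw [← hn]
    exact (Subgroup.card_le_of_le hKH.le).lt_of_ne fun e =>
      hKH.ne (Subgroup.eq_of_le_of_card_ge hKH.le e.ge)
  have hcom : ∀ k ∈ K, k * h = h * k := fun k hk => hH.comm k (hKH.le hk) h hhH
  have hd : φ h w / w ∈ fix φ H := by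
    rw [mem_fix_iff, ← hsup]
    refine sup_le (fun k hk => ?_) (Subgroup.zpowers_le.2 ?_)
    · show φ k (φ h w / w) = φ h w / w
      rw [map_div, apply_comm (hcom k hk), hw k hk]
    · show φ h (φ h w / w) = φ h w / w
      rw [map_div, ← MulAut.mul_apply, ← map_mul, ← sq h, hH.pow h hhH, map_one, MulAut.one_apply,
        ← inv_div, inv_eq_of_mul_eq_one_right (htwo _)]
  have h1 := hfix _ hd
  rw [map_div, ← apply_comm (hc h hhH)] at h1
  refine fixed_of_step htwo hodd (hfix _ ?_)
  rw [mem_fix_iff, ← hsup]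
  refine sup_le (fun k hk => ?_) (Subgroup.zpowers_le.2 ?_)
  · show φ k (φ r w / w) = φ r w / w
    rw [map_div, apply_comm (hc k (hKH.le hk)), hw k hk]
  · show φ h (φ r w / w) = φ r w / w
    rw [map_div, div_eq_div_iff_mul_eq_mul]
    rw [div_eq_div_iff_mul_eq_mul] at h1
    rw [h1, mul_comm]

theorem odd_orderOf_of_mem {R : Subgroup X} (hR : (Nat.card R).Coprime 2) {s : X} (hs : s ∈ R) :
    Odd (orderOf s) :=
  (Nat.coprime_two_right.1 hR).of_dvd_nat (Subgroup.orderOf_dvd_natCard R hs)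

/-- The offence bound. -/
theorem off0 [Finite V] (hsol : Group.IsSolvable X) {φ : X →* MulAut V} (hinj : Function.Injective φ)
    (htwo : ∀ v : V, v * v = 1) (hO : pCore 2 X = ⊥)
    (three : ∀ r a : X, orderOf r = 3 → a * a = 1 → a * r * a⁻¹ = r⁻¹ → False)
    {A : Subgroup X} (hA : PairRank.EA 2 A) :
    Nat.card A * Nat.card A * Nat.card (fix φ A) ≤ Nat.card V := by
  haveI : Fact (Nat.Prime 2) := ⟨Nat.prime_two⟩
  induction hn : Nat.card A using Nat.strong_induction_on generalizing A with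
  | _ n ih =>
  subst hn
  rcases eq_or_ne A ⊥ with rfl | hne
  · rw [Subgroup.card_bot, one_mul, one_mul]
    exact Subgroup.card_le_card_group _
  set R := pPrimeCore 2 X with hRdef
  have hR : (Nat.card R).Coprime 2 := card_pPrimeCore_coprime 2
  haveI : R.Normal := inferInstance
  have hC := Offender.centralizer_pPrimeCore_le (p := 2) (PLocal.isPSolvable_of_isSolvable _ X rfl hsol) hO
  have hsq : ∀ a ∈ A, a * a = 1 := fun a ha => by rw [← sq]; exact hA.pow a ha
  have hnot : ¬ R ≤ Subgroup.centralizer (A : Set X) := fun h => hne <| (Subgroup.eq_bot_iff_forall _).2 fun a ha =>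
    eq_one_of_sq_of_odd (hsq a ha) (odd_orderOf_of_mem hR (hC fun x hx => (h hx a ha).symm)) (pow_orderOf_eq_one a)
  obtain ⟨m, hm⟩ := hA.exists_card
  obtain ⟨H, hHA, hHc, hHL⟩ := PairRank.exists_hyp hA hne
    (by rw [Subgroup.normalizer_eq_top]; exact le_top)
    (by rw [hm]; exact hR.symm.pow_left m) inf_le_right hnot
  obtain ⟨r, ⟨hrR, hrH⟩, hrA⟩ := SetLike.not_le_iff_exists.1 hHL
  obtain ⟨a, ha, har⟩ : ∃ a ∈ A, a * r ≠ r * a := by
    by_contra h
    push Not at h
    exact hrA h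
  set s := r * (a * r⁻¹ * a⁻¹) with hs
  have hsR : s ∈ R := R.mul_mem hrR ((inferInstance : R.Normal).conj_mem _ (R.inv_mem hrR) a)
  have hodd := odd_orderOf_of_mem hR hsR
  have hsH : ∀ h ∈ H, h * s = s * h := by
    intro h hh
    have c1 : Commute h r := hrH h hh
    have c2 : Commute h a := hA.comm h (hHA hh) a ha
    exact c1.mul_right ((c2.mul_right c1.inv_right).mul_right c2.inv_right)
  have haa := hsq a ha
  have hinv : a * s * a⁻¹ = s⁻¹ := by
    have e : a * s * a⁻¹ = a * r * a⁻¹ * (a * a * r⁻¹ * (a * a)⁻¹) := by rw [hs]; group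
    rw [e, haa, hs]; group
  have hs1 : s ≠ 1 := fun e => har <| by
    rw [hs, mul_eq_one_iff_inv_eq] at e
    have e2 : a * r⁻¹ = r⁻¹ * a := by
      calc a * r⁻¹ = a * r⁻¹ * a⁻¹ * a := by group
        _ = r⁻¹ * a := by rw [← e]
    calc a * r = r * (r⁻¹ * a) * r := by group
      _ = r * a := by rw [← e2]; group
  set U := fix φ H
  set F0 := fix φ A
  have hFU : F0 ≤ U := fix_anti hHA
  have hsU : ∀ v ∈ U, φ s v ∈ U := fun v hv h hh => by rw [apply_comm (hsH h hh), hv h hh]
  suffices hkey : 4 * Nat.card F0 ≤ Nat.card U by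
    have h1 := ih _ (by
      have := Nat.card_pos (α := H)
      rw [← hHc]; omega) (hA.mono hHA) rfl
    refine le_trans ?_ h1
    calc Nat.card A * Nat.card A * Nat.card F0 = Nat.card H * Nat.card H * (4 * Nat.card F0) := by
          rw [← hHc]; ring
      _ ≤ _ := Nat.mul_le_mul_left _ hkey
  by_contra hlt
  push Not at hlt
  have hV2 : IsPGroup 2 V := fun v => ⟨1, by rw [pow_one, sq, htwo]⟩
  obtain ⟨i, hi⟩ := IsPGroup.iff_card.1 (hV2.to_subgroup U)
  obtain ⟨q, hq⟩ := Subgroup.card_dvd_of_le hFU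
  have hu : Nat.card U ≤ 2 * Nat.card F0 := by
    rw [hq] at hlt ⊢
    have h4 : q < 4 := Nat.lt_of_mul_lt_mul_left (a := Nat.card F0) (by linarith)
    have h3 : q ≠ 3 := by
      rintro rfl
      have h3d : (3 : ℕ) ∣ 2 ^ i := by rw [← hi, hq]; exact dvd_mul_left 3 _
      have := Nat.prime_three.dvd_of_dvd_pow h3d
      norm_num at this
    rw [mul_comm 2]
    exact Nat.mul_le_mul_left _ (by omega)
  set F1 := F0.map (φ s).toMonoidHom
  have hF1U : F1 ≤ U := by
    rintro _ ⟨v, hv, rfl⟩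
    exact hsU v (hFU hv)
  set T := F0 ⊓ F1
  have hT : Nat.card U ≤ 4 * Nat.card T := by
    have h1 := (Products.card_mul_card_le F0 F1).trans
      (Nat.mul_le_mul_right (Nat.card T) (Subgroup.card_le_of_le (sup_le hFU hF1U)))
    rw [show Nat.card F1 = Nat.card F0 from Subgroup.card_map_of_injective (φ s).injective] at h1
    have h2 : Nat.card F0 ≤ 2 * Nat.card T := Nat.le_of_mul_le_mul_left
      (h1.trans (le_trans (Nat.mul_le_mul_right _ hu) (le_of_eq (by ring)))) Nat.card_pos
    omega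
  have hTs : ∀ v ∈ T, φ s v = v := by
    rintro v ⟨hv, w, hw, rfl⟩
    have h1 : φ a (φ s w) = φ s w := hv a ha
    have e : a * s = s⁻¹ * a := by rw [← hinv]; group
    rw [← MulAut.mul_apply, ← map_mul, e, map_mul, MulAut.mul_apply, hw a ha] at h1
    have h2 : φ (s ^ 2) w = w := by
      rw [sq, map_mul, MulAut.mul_apply, ← h1, map_inv, MulAut.apply_inv_self]
    exact congrArg (φ s) (fixed_of_sq hodd h2)
  let d : U →* V :=
    { toFun := fun v => φ s (v : V) / (v : V)
      map_one' := by simp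
      map_mul' := fun v w => by rw [Subgroup.coe_mul, map_mul, mul_div_mul_comm] }
  have hD : Nat.card d.range ≤ 4 := by
    have h1 : Nat.card T ≤ Nat.card d.ker := by
      rw [← Nat.card_congr (Subgroup.subgroupOfEquivOfLe (inf_le_left.trans hFU : T ≤ U)).toEquiv]
      exact Subgroup.card_le_of_le fun v hv => MonoidHom.mem_ker.2 (div_eq_one.2 (hTs _ hv))
    have h2 := d.ker.card_mul_index
    rw [Subgroup.index_ker] at h2
    refine Nat.le_of_mul_le_mul_left ?_ (Nat.card_pos : 0 < Nat.card d.ker)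
    rw [h2]
    exact hT.trans (by linarith)
  have hDs : ∀ x ∈ d.range, φ s x ∈ d.range := by
    rintro _ ⟨v, rfl⟩
    exact ⟨⟨_, hsU v v.2⟩, (map_div (φ s) _ _).symm⟩
  let α : d.range → d.range := fun x => ⟨φ s x, hDs x x.2⟩
  have hit : ∀ (k : ℕ) (x : d.range), ((α^[k] x : d.range) : V) = φ (s ^ k) x := by
    intro k x
    induction k with
    | zero => simp
    | succ k ihk => rw [Function.iterate_succ_apply', pow_succ', map_mul, MulAut.mul_apply, ← ihk]
  have hD3 : ∀ x ∈ d.range, φ (s ^ 3) x = x := by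
    intro x hx
    refine fixed_of_sq (hodd.of_dvd_nat (orderOf_pow_dvd 3)) ?_
    rw [← pow_mul, show 3 * 2 = 6 from rfl, ← hit 6 ⟨x, hx⟩]
    refine congrArg Subtype.val (S4Criterion.iterate_six_eq_self ?_ (x₀ := 1) (Subtype.ext (map_one (φ s))) hD _)
    exact fun x y e => Subtype.ext ((φ s).injective (congrArg Subtype.val e))
  have hpU : ∀ (k : ℕ), ∀ v ∈ U, φ (s ^ k) v ∈ U ∧ φ (s ^ k) v / v ∈ d.range := by
    intro k v hv
    induction k with
    | zero => simp [hv]
    | succ k ihk =>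
      rw [pow_succ', map_mul, MulAut.mul_apply]
      refine ⟨hsU _ ihk.1, ?_⟩
      rw [← div_mul_div_cancel (φ s (φ (s ^ k) v)) (φ (s ^ k) v) v]
      exact Subgroup.mul_mem _ ⟨⟨_, ihk.1⟩, rfl⟩ ihk.2
  have h3 : s ^ 3 = 1 := hinj (MulEquiv.ext fun v => by
    rw [map_one, MulAut.one_apply]
    exact faithful htwo (hA.mono hHA) (hodd.of_dvd_nat (orderOf_pow_dvd 3))
      (fun h hh => (show Commute h s from hsH h hh).pow_right 3)
      (fun w hw => fixed_of_step htwo (hodd.of_dvd_nat (orderOf_pow_dvd 3)) (hD3 _ (hpU 3 w hw).2)) v)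
  haveI : Fact (Nat.Prime 3) := ⟨Nat.prime_three⟩
  exact three s a (orderOf_eq_prime h3 hs1) haa hinv

end CfsgLib.StrongEmbedS4
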