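import Cfsg.Agent.Lib.StrongEmbedS4.Section
import Cfsg.Agent.Lib.PLocal.StableNormal
import Cfsg.Agent.Lib.PSolvable
import Cfsg.Agent.Lib.AbelianTrace

/-!
Counting lemmas for weakly closed elementary abelian 2-subgroups and the minimal configuration of
the factorisation theorem for solvable groups of characteristic two.
-/

set_option autoImplicit false

namespace CfsgLib.StrongEmbedS4

open CfsgLib Cfsg

universe u

variable {K : Type u} [Group K]

/-- No subgroup of `S` inducing an elementary abelian group on `W` has quadratic offence. -/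
def PP (W S : Subgroup K) : Prop :=
  ∀ A ≤ S, ImEA W A →
    (Subgroup.centralizer (W : Set K)).relIndex A * (Subgroup.centralizer (W : Set K)).relIndex A ≤
      (Subgroup.centralizer (A : Set K)).relIndex W

/-- The image of a subgroup under conjugation. -/
abbrev cj (g : K) (W : Subgroup K) : Subgroup K := W.map (MulAut.conj g).toMonoidHom

theorem mem_cj {g x : K} {W : Subgroup K} : x ∈ cj g W ↔ g⁻¹ * x * g ∈ W := Local.mem_map_conj

theorem conj_mem_cj {g x : K} {W : Subgroup K} (hx : x ∈ W) : g * x * g⁻¹ ∈ cj g W := ⟨x, hx, rfl⟩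

theorem cj_one (W : Subgroup K) : cj (1 : K) W = W := by ext x; simp [cj]

theorem cj_cj (g h : K) (W : Subgroup K) : cj g (cj h W) = cj (g * h) W := by
  ext x; rw [mem_cj, mem_cj, mem_cj]; simp [mul_assoc]

theorem cj_centralizer (g : K) (W : Subgroup K) :
    cj g (Subgroup.centralizer (W : Set K)) = Subgroup.centralizer (cj g W : Set K) := by
  ext x
  rw [mem_cj, Subgroup.mem_centralizer_iff, Subgroup.mem_centralizer_iff]
  constructor
  · intro h y hy
    have := h _ (mem_cj.1 hy)
    calc y * x = g * ((g⁻¹ * y * g) * (g⁻¹ * x * g)) * g⁻¹ := by group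
      _ = x * y := by rw [this]; group
  · intro h y hy
    have := h _ (conj_mem_cj (g := g) hy)
    calc y * (g⁻¹ * x * g) = g⁻¹ * ((g * y * g⁻¹) * x) * g := by group
      _ = g⁻¹ * x * g * y := by rw [this]; group

theorem relIndex_cj (g : K) (A B : Subgroup K) : (cj g A).relIndex (cj g B) = A.relIndex B :=
  Subgroup.relIndex_map_map_of_injective A B (MulAut.conj g).injective

theorem PP.conj {W S : Subgroup K} (h : PP W S) (g : K) : PP (cj g W) (cj g S) := by
  intro A hA hI
  have e : cj g (cj g⁻¹ A) = A := by rw [cj_cj, mul_inv_cancel, cj_one]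
  have hle : cj g⁻¹ A ≤ S := fun x hx => by
    have h1 := mem_cj.1 (hA (mem_cj.1 hx))
    simpa [mul_assoc] using h1
  have hI' : ImEA W (cj g⁻¹ A) := by
    have key : ∀ x, g * x * g⁻¹ ∈ Subgroup.centralizer (cj g W : Set K) → x ∈ Subgroup.centralizer (W : Set K) := by
      intro x hx
      rw [← cj_centralizer, mem_cj] at hx
      simpa [mul_assoc] using hx
    refine ⟨?_, ?_⟩
    · intro a ha
      refine key _ ?_
      have h1 := hI.1 _ (mem_cj.1 ha)
      simp only [inv_inv] at h1
      simpa [mul_assoc] using h1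
    · intro a ha b hb
      refine key _ ?_
      have h1 := hI.2 _ (mem_cj.1 ha) _ (mem_cj.1 hb)
      simp only [inv_inv] at h1
      simpa [mul_assoc] using h1
  have h2 := h _ hle hI'
  rw [← relIndex_cj g, ← relIndex_cj g (Subgroup.centralizer _) W, cj_centralizer, cj_centralizer, e] at h2
  exact h2

theorem relIndex_eq_one_of_le {A B : Subgroup K} (h : A ≤ B) : B.relIndex A = 1 :=
  Subgroup.relIndex_eq_one.2 h

theorem centralizer_sup_eq (A B : Subgroup K) :
    Subgroup.centralizer ((A ⊔ B : Subgroup K) : Set K) =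
      Subgroup.centralizer (A : Set K) ⊓ Subgroup.centralizer (B : Set K) :=
  Products.centralizer_sup A B

theorem ea_sup {A B : Subgroup K} (hA : PairRank.EA 2 A) (hB : PairRank.EA 2 B)
    (h : ∀ a ∈ A, ∀ b ∈ B, a * b = b * a) : PairRank.EA 2 (A ⊔ B) := by
  have hc : A ⊔ B ≤ Subgroup.centralizer ((A ⊔ B : Subgroup K) : Set K) := by
    rw [centralizer_sup_eq]
    exact sup_le (le_inf (fun x hx y hy => hA.comm y hy x hx) fun x hx y hy => (h x hx y hy).symm)
      (le_inf (fun x hx y hy => h y hy x hx) fun x hx y hy => hB.comm y hy x hx)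
  refine ⟨fun x hx y hy => hc hy x hx, fun x hx => ?_⟩
  obtain ⟨a, ha, b, hb, rfl⟩ := mem_sup_of_le_normalizer
    (fun b hb => Subgroup.centralizer_le_normalizer _ fun a ha => h a ha b hb) hx
  rw [(show Commute a b from h a ha b hb).mul_pow, hA.pow a ha, hB.pow b hb, one_mul]

theorem ea_sup_finset {ι : Type*} (s : Finset ι) (f : ι → Subgroup K) (hf : ∀ i ∈ s, PairRank.EA 2 (f i))
    (hc : ∀ i ∈ s, ∀ j ∈ s, ∀ a ∈ f i, ∀ b ∈ f j, a * b = b * a) : PairRank.EA 2 (s.sup f) := by
  classical
  induction s using Finset.induction_on with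
  | empty => rw [Finset.sup_empty]; exact PairRank.ea_bot 2
  | @insert i t _ iht =>
    rw [Finset.sup_insert]
    refine ea_sup (hf i (Finset.mem_insert_self i t)) (iht (fun j hj => hf j (Finset.mem_insert_of_mem hj))
      fun j hj l hl => hc j (Finset.mem_insert_of_mem hj) l (Finset.mem_insert_of_mem hl)) fun a ha b hb => ?_
    have h1 : t.sup f ≤ Subgroup.centralizer {a} := Finset.sup_le fun j hj x hx =>
      Subgroup.mem_centralizer_singleton_iff.2
        (hc i (Finset.mem_insert_self i t) j (Finset.mem_insert_of_mem hj) a ha x hx).symm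
    exact (Subgroup.mem_centralizer_singleton_iff.1 (h1 hb)).symm

theorem ea_cj {W : Subgroup K} (hW : PairRank.EA 2 W) (g : K) : PairRank.EA 2 (cj g W) := by
  refine ⟨?_, ?_⟩
  · rintro _ ⟨a, ha, rfl⟩ _ ⟨b, hb, rfl⟩
    rw [← map_mul, ← map_mul, hW.comm a ha b hb]
  · rintro _ ⟨a, ha, rfl⟩
    rw [← map_pow, hW.pow a ha, map_one]

variable [Finite K]

/-- The normal closure as a finite supremum. -/
noncomputable def conjSup (W : Subgroup K) : Subgroup K :=
  letI := Fintype.ofFinite K
  (Finset.univ : Finset K).sup fun g => cj g W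

theorem cj_le_conjSup (g : K) (W : Subgroup K) : cj g W ≤ conjSup W := by
  letI := Fintype.ofFinite K
  exact Finset.le_sup (f := fun g => cj g W) (Finset.mem_univ g)

theorem le_conjSup (W : Subgroup K) : W ≤ conjSup W := by
  conv_lhs => rw [← cj_one W]
  exact cj_le_conjSup 1 W

theorem conjSup_le {W N : Subgroup K} (h : ∀ g, cj g W ≤ N) : conjSup W ≤ N := by
  letI := Fintype.ofFinite K
  exact Finset.sup_le fun g _ => h g

instance conjSup_normal (W : Subgroup K) : (conjSup W).Normal := by
  letI := Fintype.ofFinite K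
  refine ⟨fun x hx g => ?_⟩
  have h : conjSup W ≤ (conjSup W).comap (MulAut.conj g).toMonoidHom := conjSup_le fun h y hy => by
    show g * y * g⁻¹ ∈ conjSup W
    refine cj_le_conjSup (g * h) W ?_
    rw [← cj_cj]
    exact conj_mem_cj hy
  exact h hx

theorem conjSup_le_normal {W N : Subgroup K} [hN : N.Normal] (h : W ≤ N) : conjSup W ≤ N :=
  conjSup_le fun g => by
    rintro _ ⟨x, hx, rfl⟩
    exact hN.conj_mem x (h hx) g

theorem card_eq_mul_relIndex (C V : Subgroup K) : Nat.card ↥(C ⊓ V) * C.relIndex V = Nat.card V :=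
  Products.card_inf_mul_relIndex C V

theorem relIndex_pos' (C V : Subgroup K) : 0 < C.relIndex V :=
  Nat.pos_of_ne_zero Subgroup.index_ne_zero_of_finite

/-- A maximal elementary abelian subgroup is a (linear) offender. -/
theorem offender_le {S V A : Subgroup K} (hV : PairRank.EA 2 V) (hVS : V ≤ S) (hA : PairRank.EA 2 A)
    (hAS : A ≤ S) (hmax : ∀ B ≤ S, PairRank.EA 2 B → Nat.card B ≤ Nat.card A) :
    (Subgroup.centralizer (A : Set K)).relIndex V ≤ (Subgroup.centralizer (V : Set K)).relIndex A := by
  set C := Subgroup.centralizer (V : Set K) ⊓ A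
  set D := Subgroup.centralizer (A : Set K) ⊓ V
  have hB : PairRank.EA 2 (C ⊔ V) := ea_sup (hA.mono inf_le_right) hV fun a ha v hv => (ha.1 v hv).symm
  have h1 := (Products.card_mul_card_le C V).trans
    (Nat.mul_le_mul (hmax _ (sup_le (inf_le_right.trans hAS) hVS) hB)
      (Subgroup.card_le_of_le (show C ⊓ V ≤ D from fun x hx => ⟨fun a ha => hA.comm a ha x hx.1.2, hx.2⟩)))
  have e1 := card_eq_mul_relIndex (Subgroup.centralizer (A : Set K)) V
  have e2 := card_eq_mul_relIndex (Subgroup.centralizer (V : Set K)) A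
  refine Nat.le_of_mul_le_mul_left ?_ (Nat.mul_pos (Nat.card_pos (α := C)) (Nat.card_pos (α := D)))
  calc Nat.card C * Nat.card D * (Subgroup.centralizer (A : Set K)).relIndex V = Nat.card C * Nat.card V := by
        rw [← e1]; ring
    _ ≤ Nat.card A * Nat.card D := h1
    _ = _ := by rw [← e2]; ring

/-- Two subgroups with no quadratic offence on each other commute. -/
theorem commute_of_pp {S1 S2 W1 W2 : Subgroup K} (h1 : PP W1 S1) (h2 : PP W2 S2) (hW2 : W2 ≤ S1)
    (hW1 : W1 ≤ S2) (e1 : PairRank.EA 2 W1) (e2 : PairRank.EA 2 W2) :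
    ∀ x ∈ W1, ∀ y ∈ W2, x * y = y * x := by
  have ha := h1 W2 hW2 (imEA_of_ea e2)
  have hb := h2 W1 hW1 (imEA_of_ea e1)
  set a := (Subgroup.centralizer (W1 : Set K)).relIndex W2
  set b := (Subgroup.centralizer (W2 : Set K)).relIndex W1
  have hapos : 0 < a := relIndex_pos' _ _
  have hbpos : 0 < b := relIndex_pos' _ _
  have h4 : b * b ≤ a := hb
  have h5 : a * a ≤ b := ha
  have hb1 : b = 1 := by nlinarith
  intro x hx y hy
  exact ((Subgroup.relIndex_eq_one.1 hb1) hx y hy).symm

/-- Telescoping the offence over commuting pieces. -/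
theorem telescope {ι : Type*} {A0 : Subgroup K} (hA0 : PairRank.EA 2 A0) (s : Finset ι) (f : ι → Subgroup K)
    (hf : ∀ i ∈ s, ∃ S', PP (f i) S' ∧ A0 ≤ S') :
    (Subgroup.centralizer ((s.sup f : Subgroup K) : Set K)).relIndex A0 *
      (Subgroup.centralizer ((s.sup f : Subgroup K) : Set K)).relIndex A0 ≤
      (Subgroup.centralizer (A0 : Set K)).relIndex (s.sup f) := by
  classical
  induction s using Finset.induction_on with
  | empty =>
    rw [Finset.sup_empty, centralizer_eq_top_of_bot, Subgroup.relIndex_top_left, Subgroup.relIndex_bot_right]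
  | @insert i t _ iht =>
    have ih := iht fun j hj => hf j (Finset.mem_insert_of_mem hj)
    obtain ⟨S', hPP, hS'⟩ := hf i (Finset.mem_insert_self i t)
    rw [Finset.sup_insert, sup_comm]
    set Vp := t.sup f
    set U := f i
    set V := Vp ⊔ U
    set A1 := Subgroup.centralizer (Vp : Set K) ⊓ A0
    have hA1 := hPP A1 (inf_le_right.trans hS') (imEA_of_ea (hA0.mono inf_le_right))
    -- the centraliser of the join
    have e1 : (Subgroup.centralizer (V : Set K)).relIndex A0 =
        (Subgroup.centralizer (Vp : Set K)).relIndex A0 * (Subgroup.centralizer (U : Set K)).relIndex A1 := by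
      refine Nat.eq_of_mul_eq_mul_left (Nat.card_pos (α := ↥(Subgroup.centralizer (V : Set K) ⊓ A0))) ?_
      rw [card_eq_mul_relIndex]
      have h1 := card_eq_mul_relIndex (Subgroup.centralizer (U : Set K)) A1
      have h2 := card_eq_mul_relIndex (Subgroup.centralizer (Vp : Set K)) A0
      rw [show Subgroup.centralizer (V : Set K) ⊓ A0 = Subgroup.centralizer (U : Set K) ⊓ A1 by
        rw [centralizer_sup_eq, inf_comm (Subgroup.centralizer (Vp : Set K)), inf_assoc]]
      rw [← h2, ← h1]; ring
    have e2 : (Subgroup.centralizer (A0 : Set K)).relIndex Vp * (Subgroup.centralizer (A1 : Set K)).relIndex U ≤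
        (Subgroup.centralizer (A0 : Set K)).relIndex V := by
      have hA0A1 : Subgroup.centralizer (A0 : Set K) ≤ Subgroup.centralizer (A1 : Set K) :=
        Subgroup.centralizer_le inf_le_right
      set Y := Subgroup.centralizer (A1 : Set K) ⊓ V
      have hVpY : Vp ≤ Y := le_inf (fun v hv a ha => (ha.1 v hv).symm) le_sup_left
      calc (Subgroup.centralizer (A0 : Set K)).relIndex Vp * (Subgroup.centralizer (A1 : Set K)).relIndex U
          ≤ (Subgroup.centralizer (A0 : Set K)).relIndex Y * (Subgroup.centralizer (A1 : Set K)).relIndex V :=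
            Nat.mul_le_mul (Subgroup.relIndex_le_of_le_right hVpY Subgroup.index_ne_zero_of_finite)
              (Subgroup.relIndex_le_of_le_right le_sup_right Subgroup.index_ne_zero_of_finite)
        _ = (Subgroup.centralizer (A0 : Set K)).relIndex V := by
            rw [← Subgroup.inf_relIndex_right (Subgroup.centralizer (A1 : Set K)) V,
              ← Subgroup.inf_relIndex_right (Subgroup.centralizer (A0 : Set K)) Y,
              ← Subgroup.inf_relIndex_right (Subgroup.centralizer (A0 : Set K)) V]
            have hY : Subgroup.centralizer (A0 : Set K) ⊓ Y = Subgroup.centralizer (A0 : Set K) ⊓ V := by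
              rw [← inf_assoc, inf_eq_left.2 hA0A1]
            rw [hY]
            exact Subgroup.relIndex_mul_relIndex _ Y V
              (le_inf (inf_le_left.trans hA0A1) inf_le_right) inf_le_right
    rw [e1]
    refine le_trans (le_of_eq ?_) (le_trans (Nat.mul_le_mul ih hA1) e2)
    ring

/-- A bilinear pairing into a group of order two bounds the left quotient by the right one. -/
theorem pairing {E W Z : Type*} [Group E] [Group W] [CommGroup Z] [Finite E] [Finite W] [Finite Z]
    (hZ : Nat.card Z ≤ 2) (f : E →* W →* Z) {L : Subgroup W} (hL : ∀ w, w ∈ L ↔ ∀ e, f e w = 1)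
    {R : Subgroup E} (hR : ∀ e ∈ R, ∀ w, f e w = 1) : Nat.card W ≤ Nat.card L * R.index := by
  let ker : Subgroup W → Subgroup E := fun W' =>
    { carrier := {e | ∀ w ∈ W', f e w = 1}
      one_mem' := fun w _ => by simp
      mul_mem' := fun {a b} ha hb w hw => by rw [map_mul, MonoidHom.mul_apply, ha w hw, hb w hw, one_mul]
      inv_mem' := fun {a} ha w hw => by rw [map_inv, MonoidHom.inv_apply, ha w hw, inv_one] }
  suffices key : ∀ (n : ℕ) (W' : Subgroup W), Nat.card W' = n → L ≤ W' → Nat.card W' ≤ Nat.card L * (ker W').index by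
    have h := key _ ⊤ rfl le_top
    rw [Subgroup.card_top] at h
    exact h.trans (Nat.mul_le_mul_left _ (Nat.le_of_dvd (Nat.pos_of_ne_zero Subgroup.index_ne_zero_of_finite)
      (Subgroup.index_dvd_of_le fun e he w _ => hR e he w)))
  intro n
  induction n using Nat.strong_induction_on with
  | _ n ih =>
  intro W' hn hLW
  rcases eq_or_ne W' L with rfl | hne
  · exact Nat.le_mul_of_pos_right _ (Nat.pos_of_ne_zero Subgroup.index_ne_zero_of_finite)
  obtain ⟨w, hw, hwL⟩ := SetLike.exists_of_lt (lt_of_le_of_ne hLW hne.symm)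
  obtain ⟨e, he⟩ : ∃ e, f e w ≠ 1 := by
    by_contra h
    push Not at h
    exact hwL ((hL w).2 h)
  set W1 := (f e).ker ⊓ W'
  have hW1 : W1 < W' := lt_of_le_of_ne inf_le_right fun h => he (h.ge hw).1
  have hc : Nat.card W' ≤ 2 * Nat.card W1 := by
    have h1 := Products.card_inf_mul_relIndex (f e).ker W'
    rw [Subgroup.relIndex_ker] at h1
    have h2 : Nat.card (W'.map (f e)) ≤ 2 := (Subgroup.card_le_card_group _).trans hZ
    rw [← h1, mul_comm 2]
    exact Nat.mul_le_mul_left _ h2
  have hLW1 : L ≤ W1 := le_inf (fun l hl => (hL l).1 hl e) hLW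
  have h := ih _ (hn ▸ (Subgroup.card_le_of_le hW1.le).lt_of_ne fun e' =>
    hW1.ne (Subgroup.eq_of_le_of_card_ge hW1.le e'.ge)) W1 rfl hLW1
  have hle : ker W' ≤ ker W1 := fun x hx w hw => hx w hw.2
  have h2 : 2 * (ker W1).index ≤ (ker W').index := by
    rw [← Subgroup.relIndex_mul_index hle]
    refine Nat.mul_le_mul_right _ (Nat.succ_le_of_lt (lt_of_le_of_ne (relIndex_pos' _ _) fun h' => ?_))
    exact he (Subgroup.relIndex_eq_one.1 h'.symm (show e ∈ ker W1 from fun x hx => hx.1) w hw)
  calc Nat.card W' ≤ 2 * (Nat.card L * (ker W1).index) := hc.trans (Nat.mul_le_mul_left _ h)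
    _ = Nat.card L * (2 * (ker W1).index) := by ring
    _ ≤ _ := Nat.mul_le_mul_left _ h2

end CfsgLib.StrongEmbedS4
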