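import Cfsg.Agent.Lib.StrongEmbedS4.Offense
import Cfsg.Agent.Lib.S3Free.Group

/-!
The offence bound on normal elementary abelian 2-subgroups of solvable groups without `S₄` section.
-/

set_option autoImplicit false

namespace CfsgLib.StrongEmbedS4

open CfsgLib Cfsg OffenderTwo
open scoped IsMulCommutative

universe u

variable {K : Type u} [Group K]

/-- The largest normal subgroup inducing a 2-group on `V`. -/
noncomputable def nOf (V : Subgroup K) [V.Normal] : Subgroup K :=
  (pCore 2 (K ⧸ Subgroup.centralizer (V : Set K))).comap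
    (QuotientGroup.mk' (Subgroup.centralizer (V : Set K)))

instance nOf_normal (V : Subgroup K) [V.Normal] : (nOf V).Normal := by
  unfold nOf; infer_instance

/-- `A` induces an elementary abelian group on `V`. -/
def ImEA (V A : Subgroup K) : Prop :=
  (∀ a ∈ A, a * a ∈ Subgroup.centralizer (V : Set K)) ∧
    ∀ a ∈ A, ∀ b ∈ A, a * b * a⁻¹ * b⁻¹ ∈ Subgroup.centralizer (V : Set K)

theorem ImEA.mono {V A B : Subgroup K} (h : ImEA V A) (hB : B ≤ A) : ImEA V B :=
  ⟨fun a ha => h.1 a (hB ha), fun a ha b hb => h.2 a (hB ha) b (hB hb)⟩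

theorem imEA_of_ea {V A : Subgroup K} (h : PairRank.EA 2 A) : ImEA V A :=
  ⟨fun a ha => by rw [← sq, h.pow a ha]; exact one_mem _,
    fun a ha b hb => by rw [h.comm a ha b hb, mul_inv_cancel_right, mul_inv_cancel]; exact one_mem _⟩

theorem centralizer_le_nOf (V : Subgroup K) [V.Normal] : Subgroup.centralizer (V : Set K) ≤ nOf V := by
  intro x hx
  show QuotientGroup.mk' (Subgroup.centralizer (V : Set K)) x ∈ pCore 2 (K ⧸ Subgroup.centralizer (V : Set K))
  rw [show QuotientGroup.mk' (Subgroup.centralizer (V : Set K)) x = 1 from (QuotientGroup.eq_one_iff x).2 hx]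
  exact one_mem _

theorem pow_mem_of_mem_nOf [Finite K] {V : Subgroup K} [V.Normal] {x : K} (hx : x ∈ nOf V) :
    ∃ k : ℕ, x ^ 2 ^ k ∈ Subgroup.centralizer (V : Set K) := by
  obtain ⟨k, hk⟩ := isPGroup_pCore 2 ⟨_, hx⟩
  refine ⟨k, ?_⟩
  rw [← QuotientGroup.eq_one_iff]
  exact congrArg Subtype.val hk

theorem le_nOf {V : Subgroup K} [V.Normal] {N : Subgroup K} [N.Normal]
    (h : ∀ x ∈ N, ∃ k : ℕ, x ^ 2 ^ k ∈ Subgroup.centralizer (V : Set K)) : N ≤ nOf V := by
  rw [nOf, ← Subgroup.map_le_iff_le_comap]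
  haveI : (N.map (QuotientGroup.mk' (Subgroup.centralizer (V : Set K)))).Normal :=
    Subgroup.Normal.map inferInstance _ (QuotientGroup.mk'_surjective _)
  refine le_pCore ?_
  rintro ⟨_, x, hx, rfl⟩
  obtain ⟨k, hk⟩ := h x hx
  exact ⟨k, Subtype.ext ((QuotientGroup.eq_one_iff _).2 hk)⟩

theorem centralizer_eq_top_of_bot : Subgroup.centralizer ((⊥ : Subgroup K) : Set K) = ⊤ :=
  eq_top_iff.2 fun g _ => Subgroup.mem_centralizer_iff.2 fun y hy => by
    rw [Subgroup.mem_bot.1 hy, one_mul, mul_one]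

variable [Finite K]

theorem inf_centralizer_nOf_ne_bot {V : Subgroup K} [V.Normal] (hV : PairRank.EA 2 V) (hne : V ≠ ⊥) :
    V ⊓ Subgroup.centralizer (nOf V : Set K) ≠ ⊥ := by
  haveI : Fact (Nat.Prime 2) := ⟨Nat.prime_two⟩
  set C := Subgroup.centralizer (V : Set K) with hC
  let φ : K ⧸ C →* MulAut V := QuotientGroup.lift C MulAut.conjNormal fun c hc => MulEquiv.ext fun v =>
    Subtype.ext (by
      show ((MulAut.conjNormal c v : V) : K) = v
      rw [MulAut.conjNormal_apply, mul_inv_eq_iff_eq_mul]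
      exact (hc v v.2).symm)
  let ψ : pCore 2 (K ⧸ C) →* MulAut V := φ.comp (Subgroup.subtype _)
  letI : MulAction (pCore 2 (K ⧸ C)) V := MulAction.compHom V ψ
  obtain ⟨m, hm⟩ := hV.exists_card
  have h2 : 2 ∣ Nat.card V := by
    rcases m with _ | m
    · exact absurd (Subgroup.card_eq_one.1 hm) hne
    · exact hm ▸ dvd_pow_self 2 m.succ_ne_zero
  obtain ⟨w, hw, hw1⟩ := (isPGroup_pCore (G := K ⧸ C) 2).exists_fixed_point_of_prime_dvd_card_of_fixed_point V h2
    (a := 1) (fun g => map_one (ψ g))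
  intro hbot
  refine hw1 (Subtype.ext ?_).symm
  refine (Subgroup.eq_bot_iff_forall _).1 hbot w ⟨w.2, Subgroup.mem_centralizer_iff.2 fun x hx => ?_⟩
  have h1 : ((ψ ⟨QuotientGroup.mk' C x, hx⟩ w : V) : K) = w := congrArg Subtype.val (hw ⟨QuotientGroup.mk' C x, hx⟩)
  change ((MulAut.conjNormal x w : V) : K) = w at h1
  rwa [MulAut.conjNormal_apply, mul_inv_eq_iff_eq_mul] at h1

theorem off1_aux : ∀ (n : ℕ) (K : Type u) [Group K] [Finite K], Group.IsSolvable K →
    ¬ Involves (Equiv.Perm (Fin 4)) K → ∀ (V : Subgroup K) [V.Normal], Nat.card V = n →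
    PairRank.EA 2 V → ∀ A : Subgroup K, ImEA V A →
    (nOf V).relIndex A * (nOf V).relIndex A * Nat.card ↥(V ⊓ Subgroup.centralizer (A : Set K)) ≤ Nat.card V := by
  intro n
  induction n using Nat.strong_induction_on with
  | _ n ih =>
  intro K _ _ hsol hfree V hVn hn hV A hA
  haveI := hsol
  haveI : IsMulCommutative V := ⟨⟨fun a b => Subtype.ext (hV.comm a a.2 b b.2)⟩⟩
  set C := Subgroup.centralizer (V : Set K) with hC
  by_cases hNC : nOf V = C
  · -- the faithful case
    let π := QuotientGroup.mk' C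
    let φ : K ⧸ C →* MulAut V := QuotientGroup.lift C MulAut.conjNormal fun c hc => MulEquiv.ext fun v =>
      Subtype.ext (by
        show ((MulAut.conjNormal c v : V) : K) = v
        rw [MulAut.conjNormal_apply, mul_inv_eq_iff_eq_mul]
        exact (hc v v.2).symm)
    have hinj : Function.Injective φ := by
      rw [injective_iff_map_eq_one]
      intro q hq
      obtain ⟨g, rfl⟩ := QuotientGroup.mk'_surjective C q
      refine (QuotientGroup.eq_one_iff g).2 fun v hv => ?_
      have h1 := congrArg Subtype.val (DFunLike.congr_fun hq (⟨v, hv⟩ : V))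
      change ((MulAut.conjNormal g ⟨v, hv⟩ : V) : K) = v at h1
      rw [MulAut.conjNormal_apply, mul_inv_eq_iff_eq_mul] at h1
      exact h1.symm
    have hO : pCore 2 (K ⧸ C) = ⊥ := by
      rw [← Subgroup.map_comap_eq_self_of_surjective (QuotientGroup.mk'_surjective C) (pCore 2 (K ⧸ C))]
      show (nOf V).map _ = ⊥
      rw [hNC, Subgroup.map_eq_bot_iff, QuotientGroup.ker_mk']
    have hV2 : IsPGroup 2 V := hV.isPGroup
    have three : ∀ r a : K ⧸ C, orderOf r = 3 → a * a = 1 → a * r * a⁻¹ = r⁻¹ → False := by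
      intro r a hr haa har
      obtain ⟨r, rfl⟩ := QuotientGroup.mk'_surjective C r
      obtain ⟨a, rfl⟩ := QuotientGroup.mk'_surjective C a
      refine hfree (S4Criterion.involves_of_inverting hV2 hV.comm (r := r) (b := a) ?_ ?_ ?_ ?_)
      · rw [← QuotientGroup.eq_one_iff]
        have := pow_orderOf_eq_one (QuotientGroup.mk' C r)
        rw [hr] at this
        exact this
      · intro h
        rw [show QuotientGroup.mk' C r = 1 from (QuotientGroup.eq_one_iff r).2 h, orderOf_one] at hr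
        norm_num at hr
      · rw [← QuotientGroup.eq_one_iff]; exact haa
      · rw [← QuotientGroup.eq_one_iff]
        show QuotientGroup.mk' C (a * r * a⁻¹ * r) = 1
        rw [map_mul, map_mul, map_mul, map_inv, har, inv_mul_cancel]
    have hA' : PairRank.EA 2 (A.map π) := by
      refine ⟨?_, ?_⟩
      · rintro _ ⟨a, ha, rfl⟩ _ ⟨b, hb, rfl⟩
        have h1 : π (a * b * a⁻¹ * b⁻¹) = 1 := (QuotientGroup.eq_one_iff _).2 (hA.2 a ha b hb)
        rwa [map_mul, map_mul, map_mul, map_inv, map_inv, mul_inv_eq_one, mul_inv_eq_iff_eq_mul] at h1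
      · rintro _ ⟨a, ha, rfl⟩
        rw [sq, ← map_mul]
        exact (QuotientGroup.eq_one_iff _).2 (hA.1 a ha)
    have h := off0 (hsol := inferInstance) hinj (fun v => Subtype.ext (by
      rw [Subgroup.coe_mul, Subgroup.coe_one, ← sq, hV.pow v v.2])) hO three hA'
    rw [fix_map, show φ.comp π = MulAut.conjNormal from QuotientGroup.lift_comp_mk' _ _ _,
      S3Free.fix_card, ← Subgroup.relIndex_ker, QuotientGroup.ker_mk'] at h
    rwa [hNC]
  set N := nOf V
  set V' := V ⊓ Subgroup.centralizer (N : Set K) with hV'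
  haveI : V'.Normal := Subgroup.normal_inf_normal _ _
  have hVne : V ≠ ⊥ := fun h => hNC (by
    have hT : C = ⊤ := by rw [hC, h, centralizer_eq_top_of_bot]
    exact le_antisymm (le_top.trans_eq hT.symm) (centralizer_le_nOf V))
  have hV'ne : V' ≠ ⊥ := inf_centralizer_nOf_ne_bot hV hVne
  have hV'lt : Nat.card V' < Nat.card V := (Subgroup.card_le_of_le inf_le_left).lt_of_ne fun e => hNC (by
    have h1 : V ≤ Subgroup.centralizer (N : Set K) :=
      (Subgroup.eq_of_le_of_card_ge inf_le_left e.ge : V' = V).ge.trans inf_le_right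
    exact le_antisymm (fun x hx v hv => (h1 hv x hx).symm) (centralizer_le_nOf V))
  set π := QuotientGroup.mk' V'
  haveI : (V.map π).Normal := Subgroup.Normal.map hVn π (QuotientGroup.mk'_surjective _)
  have hcard : ∀ D : Subgroup K, Nat.card ↥(V' ⊓ D) * Nat.card (D.map π) = Nat.card D := fun D => by
    rw [← Subgroup.relIndex_ker, QuotientGroup.ker_mk']
    exact Products.card_inf_mul_relIndex V' D
  have hV2c : Nat.card V' * Nat.card (V.map π) = Nat.card V := by
    conv_rhs => rw [← hcard V]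
    rw [inf_eq_left.2 (inf_le_left : V' ≤ V)]
  have hV2lt : Nat.card (V.map π) < Nat.card V := by
    rw [← hV2c]
    exact lt_mul_of_one_lt_left Nat.card_pos ((Subgroup.one_lt_card_iff_ne_bot _).2 hV'ne)
  have hV2 : PairRank.EA 2 (V.map π) := by
    refine ⟨?_, ?_⟩
    · rintro _ ⟨v, hv, rfl⟩ _ ⟨w, hw, rfl⟩
      rw [← map_mul, ← map_mul, hV.comm v hv w hw]
    · rintro _ ⟨v, hv, rfl⟩
      rw [← map_pow, hV.pow v hv, map_one]
  have hCπ : ∀ c ∈ C, π c ∈ Subgroup.centralizer ((V.map π : Subgroup (K ⧸ V')) : Set (K ⧸ V')) := by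
    rintro c hc _ ⟨v, hv, rfl⟩
    rw [← map_mul, ← map_mul, hc v hv]
  have hA1 : ImEA V' A := ⟨fun a ha => Subgroup.centralizer_le (inf_le_left : V' ≤ V) (hA.1 a ha),
    fun a ha b hb => Subgroup.centralizer_le (inf_le_left : V' ≤ V) (hA.2 a ha b hb)⟩
  have hA2 : ImEA (V.map π) (A.map π) := by
    refine ⟨?_, ?_⟩
    · rintro _ ⟨a, ha, rfl⟩
      rw [← map_mul]; exact hCπ _ (hA.1 a ha)
    · rintro _ ⟨a, ha, rfl⟩ _ ⟨b, hb, rfl⟩
      rw [← map_inv, ← map_inv, ← map_mul, ← map_mul, ← map_mul]; exact hCπ _ (hA.2 a ha b hb)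
  have hfree2 : ¬ Involves (Equiv.Perm (Fin 4)) (K ⧸ V') := fun h => hfree (ClassTwoSylow.involves_of_quotient h)
  have h1 := ih _ (hn ▸ hV'lt) K hsol hfree V' rfl (hV.mono inf_le_left) A hA1
  have h2 := ih _ (hn ▸ hV2lt) (K ⧸ V') inferInstance hfree2 (V.map π) rfl hV2 (A.map π) hA2
  -- the kernels
  have hle : nOf V' ⊓ (nOf (V.map π)).comap π ≤ N := by
    refine le_nOf fun x hx => ?_
    obtain ⟨k, hk⟩ := pow_mem_of_mem_nOf hx.1
    obtain ⟨l, hl⟩ := pow_mem_of_mem_nOf (Subgroup.mem_comap.1 hx.2)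
    refine ⟨k + l + 1, Subgroup.mem_centralizer_iff.2 fun v hv => ?_⟩
    set y := x ^ 2 ^ (k + l) with hy
    have hy1 : y ∈ Subgroup.centralizer (V' : Set K) := by
      rw [hy, pow_add, pow_mul]; exact Subgroup.pow_mem _ hk _
    have hy2 : π y ∈ Subgroup.centralizer ((V.map π : Subgroup (K ⧸ V')) : Set (K ⧸ V')) := by
      rw [hy, add_comm k l, pow_add, pow_mul, map_pow, map_pow]; exact Subgroup.pow_mem _ hl _
    set f := v⁻¹ * (y * v * y⁻¹) with hf
    have hfV : f ∈ V' := by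
      rw [← QuotientGroup.eq_one_iff]
      show π f = 1
      rw [hf, map_mul, map_mul, map_mul, map_inv, map_inv, ← hy2 _ ⟨v, hv, rfl⟩, mul_inv_cancel_right,
        inv_mul_cancel]
    have hff : f * f = 1 := by rw [← sq]; exact hV.pow f hfV.1
    have hyf : y * f * y⁻¹ = f := mul_inv_eq_iff_eq_mul.2 (hy1 f hfV).symm
    have e : y * y * v * (y * y)⁻¹ = v := by
      calc y * y * v * (y * y)⁻¹ = y * (v * f) * y⁻¹ := by rw [hf]; group
        _ = (y * v * y⁻¹) * (y * f * y⁻¹) := by group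
        _ = v * (f * f) := by rw [hyf, ← mul_assoc, hf]; group
        _ = v := by rw [hff, mul_one]
    rw [pow_succ, pow_mul, ← hy, sq]
    exact (mul_inv_eq_iff_eq_mul.1 e).symm
  have hidx : N.relIndex A ≤ (nOf V').relIndex A * (nOf (V.map π)).relIndex (A.map π) := by
    rw [← Subgroup.relIndex_comap (nOf (V.map π)) π A]
    refine le_trans ?_ Subgroup.relIndex_inf_le
    exact Subgroup.relIndex_le_of_le_left hle Subgroup.index_ne_zero_of_finite
  have hfix : Nat.card ↥(V ⊓ Subgroup.centralizer (A : Set K)) ≤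
      Nat.card ↥(V' ⊓ Subgroup.centralizer (A : Set K)) *
        Nat.card ↥(V.map π ⊓ Subgroup.centralizer ((A.map π : Subgroup (K ⧸ V')) : Set (K ⧸ V'))) := by
    rw [← hcard (V ⊓ Subgroup.centralizer (A : Set K))]
    refine Nat.mul_le_mul (Subgroup.card_le_of_le (le_inf inf_le_left (inf_le_right.trans inf_le_right))) (Subgroup.card_le_of_le ?_)
    rintro _ ⟨v, ⟨hv, hvc⟩, rfl⟩
    refine ⟨⟨v, hv, rfl⟩, ?_⟩
    rintro _ ⟨a, ha, rfl⟩
    rw [← map_mul, ← map_mul, hvc a ha]
  refine le_trans (Nat.mul_le_mul (Nat.mul_le_mul hidx hidx) hfix) ?_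
  rw [← hV2c]
  refine le_trans (le_of_eq ?_) (Nat.mul_le_mul h1 h2)
  ring

theorem off1 (hsol : Group.IsSolvable K) (hfree : ¬ Involves (Equiv.Perm (Fin 4)) K)
    {V : Subgroup K} [V.Normal] (hV : PairRank.EA 2 V) {A : Subgroup K} (hA : ImEA V A) :
    (nOf V).relIndex A * (nOf V).relIndex A * Nat.card ↥(V ⊓ Subgroup.centralizer (A : Set K)) ≤ Nat.card V :=
  off1_aux _ K hsol hfree V rfl hV A hA

end CfsgLib.StrongEmbedS4
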